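import Groth.Prelude.Def_HMNum

/-!
# The numerical function and translation by a rational point of the group
-/

set_option autoImplicit false

universe u

open CategoryTheory CategoryTheory.Limits MonoidalCategory CartesianMonoidalCategory MonObj AlgebraicGeometry Opposite

noncomputable section

namespace H20Mu

variable {S : Scheme.{u}} {G X : Over S} [GrpObj G]

section Action

variable {Y : Over S} (a : AlgGrp.Action G Y)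

theorem one_act' {T : Over S} (y : T ⟶ Y) : lift (1 : T ⟶ G) y ≫ a.act = y :=
  (Magnet.MonAct.ofAction a).lift_one_act y

theorem mul_act' {T : Over S} (g h : T ⟶ G) (y : T ⟶ Y) :
    lift (g * h) y ≫ a.act = lift g (lift h y ≫ a.act) ≫ a.act :=
  (Magnet.MonAct.ofAction a).lift_mul_act g h y

theorem inv_act_act {T : Over S} (g : T ⟶ G) (y : T ⟶ Y) :
    lift g⁻¹ (lift g y ≫ a.act) ≫ a.act = y := by
  rw [← mul_act', inv_mul_cancel, one_act']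

end Action

/-- conjugation by a rational point, `u ↦ g⁻¹ u g` -/
def conj (g₀ : 𝟙_ (Over S) ⟶ G) : G ⟶ G :=
  (toUnit G ≫ g₀)⁻¹ * 𝟙 G * (toUnit G ≫ g₀)

theorem comp_conj {T : Over S} (g₀ : 𝟙_ (Over S) ⟶ G) (u : T ⟶ G) :
    u ≫ conj g₀ = (toUnit T ≫ g₀)⁻¹ * u * (toUnit T ≫ g₀) := by
  rw [conj, MonObj.comp_mul, MonObj.comp_mul, GrpObj.comp_inv, Category.comp_id, ← Category.assoc,
    comp_toUnit]

instance isMonHom_conj (g₀ : 𝟙_ (Over S) ⟶ G) : IsMonHom (conj g₀) where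
  one_hom := by
    have h : (1 : 𝟙_ (Over S) ⟶ G) ≫ conj g₀ = 1 := by rw [comp_conj]; group
    simpa [Hom.one_def] using h
  mul_hom := by
    have h : (fst G G * snd G G) ≫ conj g₀ = (fst G G ≫ conj g₀) * (snd G G ≫ conj g₀) := by
      rw [comp_conj, comp_conj, comp_conj]; group
    rw [Hom.mul_def, Hom.mul_def, lift_fst_snd, Category.id_comp] at h
    rw [h]
    congr 1


variable {a : AlgGrp.Action G X}

section EvalFn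

variable {V : Over S} (π : V ⟶ X) {U : X.left.Opens} (y : Γ(V.left, π.left ⁻¹ᵁ U))

theorem evalFn_congr {T' : Over S} {v v' : T' ⟶ V} (e : v = v')
    (h : ⊤ ≤ v.left ⁻¹ᵁ (π.left ⁻¹ᵁ U)) (h' : ⊤ ≤ v'.left ⁻¹ᵁ (π.left ⁻¹ᵁ U)) :
    HMNum.evalFn π y v h = HMNum.evalFn π y v' h' := by
  subst e; rfl

end EvalFn

theorem appLE_congr_hom {A B : Scheme.{u}} {f f' : A ⟶ B} (e : f = f') (U : B.Opens) (W : A.Opens)
    (h : W ≤ f ⁻¹ᵁ U) (h' : W ≤ f' ⁻¹ᵁ U) : f.appLE U W h = f'.appLE U W h' := by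
  subst e; rfl

theorem appLE_appTop {A B C : Scheme.{u}} (f : A ⟶ B) (g : B ⟶ C) (U : C.Opens) (h : ⊤ ≤ g ⁻¹ᵁ U)
    (h' : ⊤ ≤ (f ≫ g) ⁻¹ᵁ U) (c : Γ(C, U)) :
    (f ≫ g).appLE U ⊤ h' c = f.appTop (g.appLE U ⊤ h c) := by
  have hF : f.appLE ⊤ ⊤ le_rfl = f.appTop := Scheme.Hom.appLE_eq_app f
  rw [← hF, ← CommRingCat.comp_apply, Scheme.Hom.appLE_comp_appLE]

/-- Translation by `h` multiplies fibre coordinates by a scalar. -/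
theorem exists_scalar (B : GLinSh.LinBun G a) {T : Over S} {U₀ U₁ : X.left.Opens}
    {y₀ : Γ(B.V.left, B.π.left ⁻¹ᵁ U₀)} {y₁ : Γ(B.V.left, B.π.left ⁻¹ᵁ U₁)}
    (hy₀ : y₀ ∈ B.atlas.chart U₀) (hy₁ : y₁ ∈ B.atlas.chart U₁) (h : T ⟶ G) (x₀ x₁ : T ⟶ X)
    (hx : lift h x₀ ≫ a.act = x₁) (h₀ : x₀.left ⁻¹ᵁ U₀ = ⊤) (h₁ : x₁.left ⁻¹ᵁ U₁ = ⊤) :
    ∃ c : Γ(T.left, ⊤), ∀ (T' : Over S) (t : T' ⟶ T) (v : T' ⟶ B.V) (hv : v ≫ B.π = t ≫ x₀)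
      (hv' : (lift (t ≫ h) v ≫ B.lift.act) ≫ B.π = t ≫ x₁),
      HMNum.evalFn B.π y₁ (lift (t ≫ h) v ≫ B.lift.act) (HMNum.top_le_preimage B.π h₁ hv') =
        t.left.appTop c * HMNum.evalFn B.π y₀ v (HMNum.top_le_preimage B.π h₀ hv) := by
  obtain ⟨c, hc⟩ := B.lift_linear U₀ U₁ y₀ y₁ hy₀ hy₁
  have hq1 : ⊤ ≤ (lift h x₀ ≫ a.act).left ⁻¹ᵁ U₁ := by rw [hx, h₁]
  have hq0 : ⊤ ≤ (lift h x₀ ≫ snd G X).left ⁻¹ᵁ U₀ := by rw [lift_snd, h₀]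
  have hq : ⊤ ≤ (lift h x₀).left ⁻¹ᵁ (a.act.left ⁻¹ᵁ U₁ ⊓ (snd G X).left ⁻¹ᵁ U₀) :=
    fun z hz => ⟨hq1 hz, hq0 hz⟩
  refine ⟨(lift h x₀).left.appLE _ ⊤ hq c, fun T' t v hv hv' => ?_⟩
  set p : T' ⟶ G ⊗ B.V := lift (t ≫ h) v
  have hpq : p ≫ (G ◁ B.π) = t ≫ lift h x₀ := by
    rw [lift_whiskerLeft, hv, comp_lift]
  have hp1 : ⊤ ≤ (p ≫ (G ◁ B.π) ≫ a.act).left ⁻¹ᵁ U₁ := by
    rw [reassoc_of% hpq, hx]
    intro z _
    exact (h₁.symm.le : ⊤ ≤ x₁.left ⁻¹ᵁ U₁) (x := t.left.base z) trivial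
  have hp0 : ⊤ ≤ (p ≫ (G ◁ B.π) ≫ snd G X).left ⁻¹ᵁ U₀ := by
    rw [reassoc_of% hpq, lift_snd]
    intro z _
    exact (h₀.symm.le : ⊤ ≤ x₀.left ⁻¹ᵁ U₀) (x := t.left.base z) trivial
  have hp : ⊤ ≤ p.left ⁻¹ᵁ GLinSh.liftOpen a B.π U₀ U₁ := fun z hz => ⟨hp1 hz, hp0 hz⟩
  have key := congrArg (p.left.appLE _ ⊤ hp) hc
  rw [map_mul, ← CommRingCat.comp_apply, ← CommRingCat.comp_apply, ← CommRingCat.comp_apply,
    Scheme.Hom.appLE_comp_appLE, Scheme.Hom.appLE_comp_appLE, Scheme.Hom.appLE_comp_appLE] at key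
  refine key.trans (congrArg₂ (· * ·) ?_ ?_)
  · rw [← appLE_appTop t.left (lift h x₀).left _ hq (fun z _ => hq (x := t.left.base z) trivial)]
    rw [appLE_congr_hom (f := p.left ≫ (G ◁ B.π).left) (f' := t.left ≫ (lift h x₀).left)
      (congrArg CommaMorphism.left hpq) _ _ _ _]
  · unfold HMNum.evalFn
    rw [appLE_congr_hom (f := p.left ≫ (snd G B.V).left) (congrArg CommaMorphism.left (lift_snd (t ≫ h) v)) _ _ _]

/-- The weight on the fibre is transported by translation. -/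
theorem hasFibreWeight_translate (B : GLinSh.LinBun G a) (l : Red.Gm S ⟶ G) (g₀ : 𝟙_ (Over S) ⟶ G)
    {T : Over S} (x₁ : T ⟶ X) (w : ℤ)
    (hchart : ∃ (U : X.left.Opens) (y : Γ(B.V.left, B.π.left ⁻¹ᵁ U)), y ∈ B.atlas.chart U ∧ x₁.left ⁻¹ᵁ U = ⊤)
    (hw : HMNum.HasFibreWeight B l (lift (toUnit T ≫ g₀) x₁ ≫ a.act) w) :
    HMNum.HasFibreWeight B (l ≫ conj g₀) x₁ w := by
  obtain ⟨hfix, U₀, y₀, hy₀, h₀, hwt⟩ := hw
  obtain ⟨U₁, y₁, hy₁, h₁⟩ := hchart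
  have hG : ∀ {T' : Over S} (t : T' ⟶ T), t ≫ (toUnit T ≫ g₀) = toUnit T' ≫ g₀ := fun t => by
    rw [← Category.assoc, comp_toUnit]
  have hfix' : HMNum.IsFixedBy a (l ≫ conj g₀) x₁ := by
    intro T' t u
    have h := hfix T' t u
    rw [comp_lift_assoc, hG] at h
    rw [← Category.assoc u, comp_conj, mul_act', mul_act', h, inv_act_act]
  refine ⟨hfix', U₁, y₁, hy₁, h₁, fun T' t u v' hv' hgv' => ?_⟩
  obtain ⟨c, hc⟩ := exists_scalar B hy₀ hy₁ (toUnit T ≫ g₀)⁻¹ (lift (toUnit T ≫ g₀) x₁ ≫ a.act) x₁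
    (inv_act_act a _ _) h₀ h₁
  set g : T' ⟶ G := toUnit T' ≫ g₀ with hg
  have hgi : t ≫ (toUnit T ≫ g₀)⁻¹ = g⁻¹ := by rw [GrpObj.comp_inv, hG]
  set v : T' ⟶ B.V := lift g v' ≫ B.lift.act with hvdef
  have hv : v ≫ B.π = t ≫ lift (toUnit T ≫ g₀) x₁ ≫ a.act := by
    rw [hvdef, Category.assoc, B.lift_π, lift_whiskerLeft_assoc, hv', comp_lift_assoc, hG]
  have hw : (lift (u ≫ l) v ≫ B.lift.act) ≫ B.π = t ≫ lift (toUnit T ≫ g₀) x₁ ≫ a.act := by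
    rw [Category.assoc, B.lift_π, lift_whiskerLeft_assoc, hv]
    exact hfix T' t u
  have e1 : lift (u ≫ l ≫ conj g₀) v' ≫ B.lift.act =
      lift (t ≫ (toUnit T ≫ g₀)⁻¹) (lift (u ≫ l) v ≫ B.lift.act) ≫ B.lift.act := by
    rw [← Category.assoc u, comp_conj, mul_act', mul_act', hgi]
  have e2 : v' = lift (t ≫ (toUnit T ≫ g₀)⁻¹) v ≫ B.lift.act := by
    rw [hgi, hvdef, inv_act_act]
  calc _ = t.left.appTop c * HMNum.evalFn B.π y₀ (lift (u ≫ l) v ≫ B.lift.act)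
        (HMNum.top_le_preimage B.π h₀ hw) :=
        (evalFn_congr B.π y₁ e1 _ (HMNum.top_le_preimage B.π h₁ (e1 ▸ hgv'))).trans
          (hc T' t _ hw (e1 ▸ hgv'))
    _ = ((GmPts.unitOfPt u ^ w : (Γ(T'.left, ⊤))ˣ) : Γ(T'.left, ⊤)) *
        (t.left.appTop c * HMNum.evalFn B.π y₀ v (HMNum.top_le_preimage B.π h₀ hv)) := by
        rw [hwt T' t u v hv hw]; ring
    _ = _ := by
        rw [← hc T' t v hv (e2 ▸ hv')]
        exact congrArg _ (evalFn_congr B.π y₁ e2.symm _ _)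

/-- The limit of a translate. -/
theorem isLimitPt_translate (l : Red.Gm S ⟶ G) [IsMonHom l] (g₀ : 𝟙_ (Over S) ⟶ G) {T : Over S}
    (x y : T ⟶ X) (h : HMNum.IsLimitPt a l (lift (toUnit T ≫ g₀) x ≫ a.act) y) :
    HMNum.IsLimitPt a (l ≫ conj g₀) x (lift (toUnit T ≫ g₀)⁻¹ y ≫ a.act) := by
  obtain ⟨φ, hφx, hφy⟩ := h
  have hφ := (Magnet.MonAct.mem_eqvHom_iff φ.1).1 φ.2
  refine ⟨⟨lift (toUnit (HMNum.A1 S ⊗ T) ≫ g₀)⁻¹ φ.1 ≫ a.act,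
    (Magnet.MonAct.mem_eqvHom_iff _).2 fun T' u b t => ?_⟩, ?_, ?_⟩
  · have hpre : ∀ z : T' ⟶ HMNum.A1 S ⊗ T, z ≫ (lift (toUnit (HMNum.A1 S ⊗ T) ≫ g₀)⁻¹ φ.1 ≫ a.act) =
        lift (toUnit T' ≫ g₀)⁻¹ (z ≫ φ.1) ≫ a.act := by
      intro z
      rw [comp_lift_assoc, GrpObj.comp_inv, ← Category.assoc z, comp_toUnit]
    rw [hpre, hpre, hφ T' u b t]
    simp only [Magnet.MonAct.lift_restrict_act, Magnet.MonAct.ofAction_act]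
    rw [← Category.assoc u l, comp_conj, mul_act', mul_act', ← mul_act' a _ (toUnit T' ≫ g₀)⁻¹,
      mul_inv_cancel, one_act']
  · change lift (toUnit T ≫ η[HMNum.A1 S]) (𝟙 T) ≫ φ.1 = _ at hφx
    change lift (toUnit T ≫ η[HMNum.A1 S]) (𝟙 T) ≫ _ = x
    rw [comp_lift_assoc, hφx, GrpObj.comp_inv, ← Category.assoc, comp_toUnit, inv_act_act]
  · rw [HMNum.limitPt_eq] at hφy ⊢
    rw [comp_lift_assoc, hφy, GrpObj.comp_inv, ← Category.assoc, comp_toUnit]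

theorem isMu_translate (B : GLinSh.LinBun G a) (l : Red.Gm S ⟶ G) [IsMonHom l] (g₀ : 𝟙_ (Over S) ⟶ G)
    {T : Over S} (x : T ⟶ X) (m : ℤ)
    (hchart : ∀ x₁ : T ⟶ X, ∃ (U : X.left.Opens) (y : Γ(B.V.left, B.π.left ⁻¹ᵁ U)),
      y ∈ B.atlas.chart U ∧ x₁.left ⁻¹ᵁ U = ⊤)
    (l' : Red.Gm S ⟶ G) [IsMonHom l'] (hl' : l' = l ≫ conj g₀)
    (h : HMNum.IsMu B l (lift (toUnit T ≫ g₀) x ≫ a.act) m) : HMNum.IsMu B l' x m := by
  subst hl'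
  obtain ⟨y, hy, hw⟩ := h
  refine ⟨_, isLimitPt_translate l g₀ x y hy, hasFibreWeight_translate B l g₀ _ _ (hchart _) ?_⟩
  rwa [← mul_act', mul_inv_cancel, one_act']

theorem comp_conj_conj (g₀ : 𝟙_ (Over S) ⟶ G) {T : Over S} (u : T ⟶ G) :
    (u ≫ conj g₀) ≫ conj g₀⁻¹ = u := by
  rw [comp_conj, comp_conj, GrpObj.comp_inv]
  group

theorem isMu_act_iff (B : GLinSh.LinBun G a) (l : Red.Gm S ⟶ G) [IsMonHom l] (g₀ : 𝟙_ (Over S) ⟶ G)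
    {T : Over S} (x : T ⟶ X) (m : ℤ)
    (hchart : ∀ x₁ : T ⟶ X, ∃ (U : X.left.Opens) (y : Γ(B.V.left, B.π.left ⁻¹ᵁ U)),
      y ∈ B.atlas.chart U ∧ x₁.left ⁻¹ᵁ U = ⊤)
    (l' : Red.Gm S ⟶ G) [IsMonHom l'] (hl' : l' = l ≫ conj g₀) :
    HMNum.IsMu B l (lift (toUnit T ≫ g₀) x ≫ a.act) m ↔ HMNum.IsMu B l' x m := by
  refine ⟨isMu_translate B l g₀ x m hchart l' hl', fun h => ?_⟩
  refine isMu_translate B l' g₀⁻¹ _ m hchart l ?_ ?_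
  · rw [hl', comp_conj_conj]
  · rwa [GrpObj.comp_inv, inv_act_act]

/-- Over a field every rational point lies in a chart. -/
theorem exists_chart (B : GLinSh.LinBun G a) [Subsingleton S] [Nonempty S]
    (x : 𝟙_ (Over S) ⟶ X) : ∃ (U : X.left.Opens) (y : Γ(B.V.left, B.π.left ⁻¹ᵁ U)),
      y ∈ B.atlas.chart U ∧ x.left ⁻¹ᵁ U = ⊤ := by
  obtain ⟨s⟩ := ‹Nonempty S›
  obtain ⟨U, hU, y, hy⟩ := B.atlas.cover (x.left.base s)
  refine ⟨U, y, hy, TopologicalSpace.Opens.ext (Set.eq_univ_iff_forall.2 fun p => ?_)⟩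
  show x.left.base p ∈ U
  rwa [show p = s from Subsingleton.elim (α := S) p s]

end H20Mu
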