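import Groth.Agent.H20Mu.Limit
import Groth.Agent.H27Witt.Fn
import Groth.Prelude.Def_HMNum

/-!
# Values of functions at rational points; functions on the multiplicative group
-/

set_option autoImplicit false
set_option linter.style.haveILetI false
set_option backward.isDefEq.respectTransparency false

universe u

open CategoryTheory CategoryTheory.Limits MonoidalCategory CartesianMonoidalCategory MonObj AlgebraicGeometry Opposite
open Groth.Agent.H27Witt

noncomputable section

namespace H20Mu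

variable {k : Type u} [Field k]

/-- The value of a function at a rational point. -/
def val {X : Over (Sk k)} (x : 𝟙_ (Over (Sk k)) ⟶ X) : Fn X →ₐ[k] k := Fn.ev x

theorem val_pull {X Y : Over (Sk k)} (x : 𝟙_ (Over (Sk k)) ⟶ X) (f : X ⟶ Y) (a : Fn Y) :
    val x (Fn.pull f a) = val (x ≫ f) a := rfl

local notation "Gm" => Red.Gm (Sk k)

/-- The coordinate on `G_m`. -/
def zFn : (Fn (Red.Gm (Sk k)))ˣ := GmPts.unitOfPt (𝟙 (Red.Gm (Sk k)))

theorem pull_zFn {T : Over (Sk k)} (g : T ⟶ Gm) :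
    Units.map ((Fn.pull g : Fn Gm →ₐ[k] Fn T) : Fn Gm →* Fn T) zFn = GmPts.unitOfPt g := by
  have h := GmPts.unitOfPt_comp g (𝟙 Gm)
  rw [Category.comp_id] at h
  exact h.symm

/-- The parameter of a rational point of `G_m`. -/
def par (u : 𝟙_ (Over (Sk k)) ⟶ Gm) : kˣ :=
  Units.map ((val u : Fn Gm →ₐ[k] k) : Fn Gm →* k) zFn

/-- The rational point of `G_m` with a given parameter. -/
def ofPar (c : kˣ) : 𝟙_ (Over (Sk k)) ⟶ Gm :=
  GmPts.ptOfUnit (Units.map ((struct (𝟙_ (Over (Sk k))) : k →+* Fn (𝟙_ (Over (Sk k)))) : k →* _) c)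

theorem par_eq (u : 𝟙_ (Over (Sk k)) ⟶ Gm) :
    (par u : k) = gamma k ((GmPts.unitOfPt u : Γ((𝟙_ (Over (Sk k))).left, ⊤)ˣ) : Γ((𝟙_ (Over (Sk k))).left, ⊤)) := by
  rw [← pull_zFn u]
  rfl

theorem par_ofPar (c : kˣ) : par (ofPar c) = c := by
  refine Units.ext ?_
  rw [par_eq, ofPar, GmPts.unitOfPt_ptOfUnit]
  exact gamma_struct _

theorem par_mul (u u' : 𝟙_ (Over (Sk k)) ⟶ Gm) : par (u * u') = par u * par u' := by
  refine Units.ext ?_
  rw [Units.val_mul, par_eq, par_eq, par_eq, GmPts.unitOfPt_mul, Units.val_mul]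
  exact map_mul _ _ _

theorem par_one : par (1 : 𝟙_ (Over (Sk k)) ⟶ Gm) = 1 := by
  refine Units.ext ?_
  rw [Units.val_one, par_eq, GmPts.unitOfPt_one, Units.val_one]
  exact map_one _

theorem val_zFn_zpow (u : 𝟙_ (Over (Sk k)) ⟶ Gm) (n : ℤ) :
    val u ((zFn ^ n : (Fn Gm)ˣ) : Fn Gm) = ((par u ^ n : kˣ) : k) := by
  rw [par, ← map_zpow]
  rfl

/-- Functions on `G_m` are Laurent polynomials in the coordinate. -/
theorem exists_laurent (F : Fn Gm) :
    ∃ (s : Finset ℤ) (c : ℤ → k), F = ∑ i ∈ s, c i • ((zFn ^ i : (Fn Gm)ˣ) : Fn Gm) := by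
  let A : Type u := MonoidAlgebra k (Multiplicative ℤ)
  let P : Over (Sk k) := Over.mk (Spec.map (CommRingCat.ofHom (algebraMap k A)))
  let e : A ≃ₐ[k] Fn P := Fn.specAlg (k := k) A
  haveI : IsAffine P.left := inferInstanceAs (IsAffine (Spec _))
  let mon : Multiplicative ℤ →* Fn Gm := (Units.coeHom _).comp (zpowersHom (Fn Gm)ˣ zFn)
  let ψ : A →ₐ[k] Fn Gm := MonoidAlgebra.lift k (Fn Gm) (Multiplicative ℤ) mon
  obtain ⟨h, hh⟩ := Fn.exists_hom (X := Gm) (Y := P) (ψ.comp e.symm.toAlgHom)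
  let Z : (Fn P)ˣ :=
    { val := e (MonoidAlgebra.single (Multiplicative.ofAdd 1) 1)
      inv := e (MonoidAlgebra.single (Multiplicative.ofAdd (-1)) 1)
      val_inv := by
        rw [← map_mul, MonoidAlgebra.single_mul_single, _root_.mul_one, ← ofAdd_add, add_neg_cancel, ofAdd_zero]
        exact map_one e
      inv_val := by
        rw [← map_mul, MonoidAlgebra.single_mul_single, _root_.mul_one, ← ofAdd_add, neg_add_cancel, ofAdd_zero]
        exact map_one e }
  let p : P ⟶ Gm := GmPts.ptOfUnit Z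
  have hid : h ≫ p = 𝟙 Gm := by
    apply GmPts.gmFn_injective
    show Red.gmFn (h ≫ p) = Red.gmFn (𝟙 Gm)
    rw [GmPts.gmFn_comp, GmPts.gmFn_ptOfUnit]
    show Fn.pull h (e (MonoidAlgebra.single (Multiplicative.ofAdd 1) 1)) = _
    rw [hh]
    rw [AlgHom.comp_apply]
    show ψ (e.symm (e (MonoidAlgebra.single (Multiplicative.ofAdd 1) 1))) = _
    rw [AlgEquiv.symm_apply_apply]
    refine (MonoidAlgebra.lift_single _ _ _).trans ?_
    rw [one_smul]
    show ((zFn ^ (1 : ℤ) : (Fn Gm)ˣ) : Fn Gm) = _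
    rw [zpow_one]
    exact GmPts.val_unitOfPt _
  have hF : F = ψ (e.symm (Fn.pull p F)) := by
    have := AlgHom.congr_fun hh (Fn.pull p F)
    refine Eq.trans ?_ this
    rw [Fn.pull_pull, hid, Fn.pull_id]
    rfl
  refine ⟨(e.symm (Fn.pull p F)).coeff.support.image Multiplicative.toAdd,
    fun i => (e.symm (Fn.pull p F)).coeff (Multiplicative.ofAdd i), hF.trans ?_⟩
  rw [Finset.sum_image (fun a _ b _ hab => Multiplicative.toAdd.injective hab)]
  refine (MonoidAlgebra.lift_apply _ _).trans ?_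
  exact Finset.sum_congr rfl fun a _ => rfl

/-- A Laurent polynomial vanishing at almost all parameters is zero. -/
theorem laurent_coeff_eq_zero [Infinite k] {s : Finset ℤ} {c : ℤ → k}
    (h : ∀ u : kˣ, ∑ i ∈ s, c i * ((u ^ i : kˣ) : k) = 0) : ∀ i ∈ s, c i = 0 := by
  have hinj : Function.Injective fun i : ℤ => (Units.coeHom k).comp (zpowGroupHom i : kˣ →* kˣ) := by
    intro i j hij
    by_contra hne
    wlog hlt : j < i generalizing i j
    · exact this hij.symm (Ne.symm hne) (lt_of_le_of_ne (not_lt.mp hlt) hne)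
    obtain ⟨d, hd, hdij⟩ : ∃ d : ℕ, 0 < d ∧ (d : ℤ) = i - j := ⟨(i - j).toNat, by omega, by omega⟩
    have hroots : ∀ u : kˣ, u ^ d = 1 := fun u => by
      have h1 : u ^ i = u ^ j := Units.ext (DFunLike.congr_fun hij u)
      rw [← zpow_natCast, hdij, zpow_sub, h1, mul_inv_cancel]
    have hne0 : (Polynomial.X ^ d - 1 : Polynomial k) ≠ 0 := (Polynomial.monic_X_pow_sub_C 1 hd.ne').ne_zero
    refine hne0 (Polynomial.eq_zero_of_infinite_isRoot _ ?_)
    refine Set.Infinite.mono ?_ (Set.finite_singleton (0 : k)).infinite_compl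
    intro a ha
    have := congrArg Units.val (hroots (Units.mk0 a ha))
    simp only [Units.val_pow_eq_pow_val, Units.val_mk0, Units.val_one] at this
    simp [Polynomial.IsRoot, this]
  have hli := (linearIndependent_monoidHom kˣ k).comp _ hinj
  intro i hi
  refine linearIndependent_iff'.mp hli s c (funext fun u => ?_) i hi
  simpa [Finset.sum_apply] using h u

/-- Functions on `G_m` are determined by their values. -/
theorem gm_ext [Infinite k] {F F' : Fn Gm} (h : ∀ u, val u F = val u F') : F = F' := by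
  obtain ⟨s, c, hc⟩ := exists_laurent (F - F')
  have h0 := laurent_coeff_eq_zero (s := s) (c := c) fun u => by
    have h1 : val (ofPar u) (F - F') = 0 := by rw [map_sub, h, sub_self]
    rw [hc, map_sum] at h1
    simpa [val_zFn_zpow, par_ofPar] using h1
  rw [← sub_eq_zero, hc]
  exact Finset.sum_eq_zero fun i hi => by rw [h0 i hi, zero_smul]

/-- A multiplicative function on `G_m` is a power of the coordinate. -/
theorem exists_eq_zpow [Infinite k] (F : Fn Gm) (h1 : val 1 F = 1)
    (hmul : ∀ u u', val (u * u') F = val u F * val u' F) :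
    ∃ w : ℤ, F = ((zFn ^ w : (Fn Gm)ˣ) : Fn Gm) := by
  obtain ⟨s, c, hc⟩ := exists_laurent F
  have hval : ∀ u, val u F = ∑ i ∈ s, c i * ((par u ^ i : kˣ) : k) := fun u => by
    rw [hc, map_sum]
    simp [val_zFn_zpow]
  obtain ⟨w, hw, hcw⟩ : ∃ w ∈ s, c w ≠ 0 := by
    by_contra hcon
    push Not at hcon
    rw [hval, Finset.sum_eq_zero fun i hi => by rw [hcon i hi, zero_mul]] at h1
    exact zero_ne_one h1
  refine ⟨w, gm_ext fun u => ?_⟩
  have h2 : ∀ i ∈ s, c i * ((par u ^ i : kˣ) : k) - val u F * c i = 0 := by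
    refine laurent_coeff_eq_zero fun v => ?_
    have h3 := hmul u (ofPar v)
    rw [hval (u * ofPar v), hval (ofPar v), par_mul, par_ofPar, Finset.mul_sum] at h3
    simp only [sub_mul, Finset.sum_sub_distrib]
    rw [sub_eq_zero]
    refine Eq.trans ?_ (h3.trans ?_)
    · exact Finset.sum_congr rfl fun i _ => by rw [mul_zpow, Units.val_mul]; ring
    · exact Finset.sum_congr rfl fun i _ => by ring
  rw [val_zFn_zpow]
  exact mul_right_cancel₀ hcw ((sub_eq_zero.mp (h2 w hw)).symm.trans (mul_comm _ _))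

theorem eq_of_forall_zpow [Infinite k] {i j : ℤ} (h : ∀ u : kˣ, u ^ i = u ^ j) : i = j := by
  by_contra hne
  have h0 := laurent_coeff_eq_zero (k := k) (s := {i, j}) (c := fun l => if l = i then 1 else -1) (fun u => by
    rw [Finset.sum_pair hne, if_pos rfl, if_neg (Ne.symm hne), h u]
    ring) i (by simp)
  simp at h0

end H20Mu
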