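import Groth.Agent.H27Witt.Fn
import Mathlib.AlgebraicGeometry.Morphisms.Flat

/-!
# Functions on a product with an affine scheme over a field
-/

set_option autoImplicit false
set_option linter.style.haveILetI false
set_option backward.isDefEq.respectTransparency false

universe u

open CategoryTheory CategoryTheory.Limits MonoidalCategory CartesianMonoidalCategory MonObj AlgebraicGeometry TensorProduct
open Groth.Agent.H27Witt

noncomputable section

namespace H20Mu

variable {k : Type u} [Field k]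

/-- Functions on `T × V` are sums of products, for `T` affine and `V` quasi-compact and quasi-separated. -/
theorem exists_decomp_qcqs {T V : Over (Sk k)} [IsAffine T.left] [CompactSpace V.left]
    [QuasiSeparatedSpace V.left] (f : Fn (T ⊗ V)) :
    ∃ (n : ℕ) (a : Fin n → Fn T) (b : Fin n → Fn V),
      f = ∑ i, Fn.pull (fst T V) (a i) * Fn.pull (snd T V) (b i) := by
  have H : IsPullback (snd T V).left (fst T V).left V.hom T.hom :=
    (IsPullback.of_hasPullback T.hom V.hom).flip
  haveI : Flat T.hom := inferInstance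
  have hpo := (isIso_pushoutSection_iff H (US := ⊤) (UT := ⊤) (UX := ⊤) (UY := ⊤)
    (by simp) (by simp) (by simp)).mp
    (isIso_pushoutSection_of_isQuasiSeparated_of_flat_right _ (UX := ⊤) _ _ _ (isAffineOpen_top _) (isAffineOpen_top _)
      (by simpa using isCompact_univ) (by simpa using isQuasiSeparated_univ))
  let φ : Fn T ⊗[k] Fn V →ₐ[k] Fn (T ⊗ V) :=
    Algebra.TensorProduct.lift (Fn.pull (fst T V)) (Fn.pull (snd T V)) fun _ _ => Commute.all _ _
  have hφT : ∀ a, φ (a ⊗ₜ 1) = Fn.pull (fst T V) a := fun a => by simp [φ]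
  have hφV : ∀ b, φ (1 ⊗ₜ b) = Fn.pull (snd T V) b := fun b => by simp [φ]
  let R : Subalgebra k (Fn (T ⊗ V)) := φ.range
  let incl : CommRingCat.of R ⟶ Γ((T ⊗ V).left, ⊤) := CommRingCat.ofHom R.val.toRingHom
  let iV : Γ(V.left, ⊤) ⟶ CommRingCat.of R :=
    CommRingCat.ofHom ((Fn.pull (snd T V)).codRestrict R fun b => ⟨_, hφV b⟩).toRingHom
  let iT : Γ(T.left, ⊤) ⟶ CommRingCat.of R :=
    CommRingCat.ofHom ((Fn.pull (fst T V)).codRestrict R fun a => ⟨_, hφT a⟩).toRingHom
  have hw : V.hom.appLE ⊤ ⊤ (by simp) ≫ iV = T.hom.appLE ⊤ ⊤ (by simp) ≫ iT := by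
    refine CommRingCat.hom_ext (RingHom.ext fun c => Subtype.ext ?_)
    have h := congr($(hpo.w).hom c)
    simp [iV, iT, Scheme.Hom.appLE, Scheme.Hom.appTop] at h ⊢
    exact h
  have hid : hpo.desc iV iT hw ≫ incl = 𝟙 _ := by
    apply hpo.hom_ext
    · rw [hpo.inl_desc_assoc, Category.comp_id]
      refine CommRingCat.hom_ext (RingHom.ext fun b => ?_)
      simp [iV, incl, Scheme.Hom.appTop, Scheme.Hom.appLE]
      rfl
    · rw [hpo.inr_desc_assoc, Category.comp_id]
      refine CommRingCat.hom_ext (RingHom.ext fun b => ?_)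
      simp [iT, incl, Scheme.Hom.appTop, Scheme.Hom.appLE]
      rfl
  obtain ⟨z, rfl⟩ : ∃ z, φ z = f := by
    have h := congr($(hid).hom f)
    obtain ⟨z, hz⟩ := (hpo.desc iV iT hw f).2
    exact ⟨z, hz.trans h⟩
  induction z using TensorProduct.induction_on with
  | zero => exact ⟨0, Fin.elim0, Fin.elim0, by simp⟩
  | tmul a b => exact ⟨1, fun _ => a, fun _ => b, by simp [φ]⟩
  | add z w hz hw =>
    obtain ⟨n, a, b, hz⟩ := hz
    obtain ⟨m, a', b', hw⟩ := hw
    exact ⟨n + m, Fin.append a a', Fin.append b b', by rw [map_add, hz, hw, Fin.sum_univ_add]; simp⟩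

end H20Mu
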