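import Groth.Agent.H20Mu.Values
import Groth.Agent.H20Mu.Conj

/-!
# Fibre coordinates of a linearised line bundle at rational points
-/

set_option autoImplicit false
set_option linter.style.haveILetI false
set_option backward.isDefEq.respectTransparency false

universe u

open CategoryTheory CategoryTheory.Limits MonoidalCategory CartesianMonoidalCategory MonObj AlgebraicGeometry Opposite
open Groth.Agent.H27Witt

noncomputable section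

namespace H20Mu

variable {k : Type u} [Field k]

/-- The value of a section at a rational point. -/
def pval {X : Over (Sk k)} (x : 𝟙_ (Over (Sk k)) ⟶ X) {W : X.left.Opens} (h : ⊤ ≤ x.left ⁻¹ᵁ W) :
    Γ(X.left, W) →+* k :=
  (gamma k).comp (x.left.appLE W ⊤ h).hom

theorem le_preimage_of_mem {X : Over (Sk k)} {x : 𝟙_ (Over (Sk k)) ⟶ X} {W : X.left.Opens}
    {p : (𝟙_ (Over (Sk k))).left} (hp : x.left p ∈ W) : ⊤ ≤ x.left ⁻¹ᵁ W := fun z _ => by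
  rw [Subsingleton.elim (α := PrimeSpectrum k) z p]
  exact hp

theorem pval_congr {X : Over (Sk k)} {x x' : 𝟙_ (Over (Sk k)) ⟶ X} (e : x = x') {W : X.left.Opens}
    (h : ⊤ ≤ x.left ⁻¹ᵁ W) (h' : ⊤ ≤ x'.left ⁻¹ᵁ W) (s : Γ(X.left, W)) : pval x h s = pval x' h' s := by
  subst e; rfl

theorem pval_res {X : Over (Sk k)} (x : 𝟙_ (Over (Sk k)) ⟶ X) {W W' : X.left.Opens} (hW : W' ≤ W)
    (h : ⊤ ≤ x.left ⁻¹ᵁ W) (h' : ⊤ ≤ x.left ⁻¹ᵁ W') (s : Γ(X.left, W)) :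
    pval x h' (X.left.presheaf.map (homOfLE hW).op s) = pval x h s := by
  unfold pval
  rw [RingHom.comp_apply, RingHom.comp_apply]
  exact congrArg (gamma k) congr($(Scheme.Hom.map_appLE x.left h' (homOfLE hW).op).hom s)

theorem pval_app {X Y : Over (Sk k)} (v : 𝟙_ (Over (Sk k)) ⟶ X) (f : X ⟶ Y) {W : Y.left.Opens}
    (h : ⊤ ≤ v.left ⁻¹ᵁ (f.left ⁻¹ᵁ W)) (h' : ⊤ ≤ (v ≫ f).left ⁻¹ᵁ W) (s : Γ(Y.left, W)) :
    pval v h (f.left.app W s) = pval (v ≫ f) h' s := by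
  unfold pval
  rw [RingHom.comp_apply, RingHom.comp_apply, Scheme.Hom.app_eq_appLE]
  exact congrArg (gamma k) congr($(Scheme.Hom.appLE_comp_appLE v.left f.left W (f.left ⁻¹ᵁ W) ⊤ le_rfl h).hom s)

theorem pval_resTop {X : Over (Sk k)} (v : 𝟙_ (Over (Sk k)) ⟶ X) {W : X.left.Opens}
    (h : ⊤ ≤ v.left ⁻¹ᵁ W) (f : Γ(X.left, ⊤)) :
    pval v h (X.left.presheaf.map (homOfLE le_top).op f) = val v f := by
  unfold pval
  rw [RingHom.comp_apply]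
  refine (congrArg (gamma k) congr($(Scheme.Hom.map_appLE v.left h (homOfLE le_top).op).hom f)).trans ?_
  exact congrArg (gamma k) congr($(Scheme.Hom.appLE_eq_app v.left (U := ⊤)).hom f)

variable {G X : Over (Sk k)} [GrpObj G] {a : AlgGrp.Action G X} (B : GLinSh.LinBun G a)

/-- The value of a fibre coordinate at a point of the total space. -/
def cval {U : X.left.Opens} (y : Γ(B.V.left, B.π.left ⁻¹ᵁ U)) (v : 𝟙_ (Over (Sk k)) ⟶ B.V)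
    (h : ⊤ ≤ (v ≫ B.π).left ⁻¹ᵁ U) : k :=
  pval v (W := B.π.left ⁻¹ᵁ U) h y

theorem cval_congr {U : X.left.Opens} (y : Γ(B.V.left, B.π.left ⁻¹ᵁ U)) {v v' : 𝟙_ (Over (Sk k)) ⟶ B.V}
    (e : v = v') (h : ⊤ ≤ (v ≫ B.π).left ⁻¹ᵁ U) (h' : ⊤ ≤ (v' ≫ B.π).left ⁻¹ᵁ U) :
    cval B y v h = cval B y v' h' := by
  subst e; rfl

/-- A global function on `V` is fibrewise homogeneous of degree `n` on rational points. -/
def Homog (n : ℕ) (F : Fn B.V) : Prop :=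
  ∀ (U : X.left.Opens) (y : Γ(B.V.left, B.π.left ⁻¹ᵁ U)), y ∈ B.atlas.chart U →
    ∀ (v v₁ : 𝟙_ (Over (Sk k)) ⟶ B.V) (h : ⊤ ≤ (v ≫ B.π).left ⁻¹ᵁ U)
      (h₁ : ⊤ ≤ (v₁ ≫ B.π).left ⁻¹ᵁ U), v₁ ≫ B.π = v ≫ B.π → cval B y v₁ h₁ = 1 →
      val v F = cval B y v h ^ n * val v₁ F

theorem homog_of_hasWeight {n : ℕ} {f : Fn B.V} (hf : GLinSh.HasWeight B.atlas.chart n f) :
    Homog B n f := by
  intro U y hy v v₁ h h₁ hv hc
  obtain ⟨c, hc'⟩ := hf U y hy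
  have key : ∀ (w : 𝟙_ (Over (Sk k)) ⟶ B.V) (hw : ⊤ ≤ (w ≫ B.π).left ⁻¹ᵁ U),
      val w f = pval (w ≫ B.π) hw c * cval B y w hw ^ n := fun w hw => by
    rw [← pval_resTop w (W := B.π.left ⁻¹ᵁ U) hw f]
    refine (congrArg (pval w (W := B.π.left ⁻¹ᵁ U) hw) hc').trans ?_
    rw [map_mul, map_pow, pval_app w B.π hw hw]
    rfl
  rw [key v h, key v₁ h₁, hc, one_pow, _root_.mul_one, pval_congr hv, mul_comm]

/-- In a chart over an affine open there is a unique section of coordinate one. -/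
theorem exists_section {U : X.left.Opens} {y : Γ(B.V.left, B.π.left ⁻¹ᵁ U)} (hy : y ∈ B.atlas.chart U)
    {W : X.left.Opens} (hW : IsAffineOpen W) (hWU : W ≤ U) :
    ∃ σ : Over.mk (W.ι ≫ X.hom) ⟶ B.V, σ ≫ B.π = Over.homMk W.ι rfl ∧
      ∀ (q : 𝟙_ (Over (Sk k)) ⟶ Over.mk (W.ι ≫ X.hom)) (h : ⊤ ≤ ((q ≫ σ) ≫ B.π).left ⁻¹ᵁ U),
        cval B y (q ≫ σ) h = 1 := by
  haveI := B.atlas.affine
  have hV : IsAffineOpen (B.π.left ⁻¹ᵁ W) := hW.preimage B.π.left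
  let e := Polynomial.eval₂RingHom (B.π.left.app W).hom (GLinSh.res B.π hWU y)
  have he : Function.Bijective e := B.atlas.coord U y hy W hW hWU
  let θ : Γ(B.V.left, B.π.left ⁻¹ᵁ W) ⟶ Γ(X.left, W) :=
    CommRingCat.ofHom ((Polynomial.evalRingHom (1 : Γ(X.left, W))).comp (RingEquiv.ofBijective e he).symm.toRingHom)
  have hθ : B.π.left.app W ≫ θ = 𝟙 _ := by
    refine CommRingCat.hom_ext (RingHom.ext fun c => ?_)
    have h1 : (RingEquiv.ofBijective e he).symm ((B.π.left.app W).hom c) = Polynomial.C c :=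
      (RingEquiv.ofBijective e he).injective (by simp [e])
    simp [θ, h1]
  have hθy : θ (GLinSh.res B.π hWU y) = 1 := by
    have h1 : (RingEquiv.ofBijective e he).symm (GLinSh.res B.π hWU y) = Polynomial.X :=
      (RingEquiv.ofBijective e he).injective (by simp [e])
    simp [θ, h1]
  let s : W.toScheme ⟶ B.V.left := hW.isoSpec.hom ≫ Spec.map θ ≫ hV.fromSpec
  have hsπ : s ≫ B.π.left = W.ι := by
    show hW.isoSpec.hom ≫ Spec.map θ ≫ hV.fromSpec ≫ B.π.left = _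
    rw [← IsAffineOpen.SpecMap_appLE_fromSpec B.π.left hW hV le_rfl, ← Scheme.Hom.app_eq_appLE,
      ← Spec.map_comp_assoc, hθ, Spec.map_id, Category.id_comp, IsAffineOpen.isoSpec_hom_fromSpec]
  let σ : Over.mk (W.ι ≫ X.hom) ⟶ B.V := Over.homMk s (by
    rw [← Over.w B.π, ← Category.assoc, hsπ]; rfl)
  have hσπ : σ ≫ B.π = Over.homMk W.ι rfl := Over.OverMorphism.ext hsπ
  refine ⟨σ, hσπ, fun q h => ?_⟩
  have hres : ⊤ ≤ (q ≫ σ).left ⁻¹ᵁ (B.π.left ⁻¹ᵁ W) := fun z _ => by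
    show ((q ≫ σ) ≫ B.π).left z ∈ W
    rw [Category.assoc, hσπ]
    exact W.range_ι.le ⟨q.left z, rfl⟩
  unfold cval
  rw [← pval_res (q ≫ σ) (B.π.left.preimage_mono hWU) h hres y]
  have hs1 : (B.π.left ⁻¹ᵁ W) ⊓ ⊤ = B.π.left ⁻¹ᵁ W := inf_top_eq _
  have hle : ⊤ ≤ s ⁻¹ᵁ (B.π.left ⁻¹ᵁ W) := fun z _ => by
    show (s ≫ B.π.left) z ∈ W
    rw [hsπ]
    exact W.range_ι.le ⟨z, rfl⟩
  have hs : s.appLE (B.π.left ⁻¹ᵁ W) ⊤ hle (GLinSh.res B.π hWU y) = 1 := by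
    have h1 : s.appLE (B.π.left ⁻¹ᵁ W) ⊤ hle =
        θ ≫ W.topIso.inv := appLE_section hW hV θ
    rw [h1, CommRingCat.comp_apply, hθy, map_one]
  unfold pval
  rw [RingHom.comp_apply]
  have hcomp : (q ≫ σ).left.appLE (B.π.left ⁻¹ᵁ W) ⊤ hres =
      s.appLE (B.π.left ⁻¹ᵁ W) ⊤ hle ≫ q.left.appLE ⊤ ⊤ le_top := by
    rw [Scheme.Hom.appLE_comp_appLE]
    rfl
  rw [hcomp]
  show gamma k (q.left.appLE ⊤ ⊤ le_top (s.appLE (B.π.left ⁻¹ᵁ W) ⊤ hle (GLinSh.res B.π hWU y))) = 1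
  refine (congrArg (fun z => gamma k (q.left.appLE ⊤ ⊤ le_top z)) hs).trans ?_
  rw [map_one, map_one]
where
  appLE_section {A C : Scheme.{u}} {W : A.Opens} {V : C.Opens} (hW : IsAffineOpen W) (hV : IsAffineOpen V)
      (θ : Γ(C, V) ⟶ Γ(A, W)) {h : ⊤ ≤ (hW.isoSpec.hom ≫ Spec.map θ ≫ hV.fromSpec) ⁻¹ᵁ V} :
      (hW.isoSpec.hom ≫ Spec.map θ ≫ hV.fromSpec).appLE V ⊤ h = θ ≫ W.topIso.inv := by
    have e1 : hV.fromSpec.appLE V ⊤ (by rw [hV.fromSpec_preimage_self]) = (Scheme.ΓSpecIso Γ(C, V)).inv := by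
      rw [Scheme.Hom.appLE, IsAffineOpen.fromSpec_app_self, Category.assoc, ← Functor.map_comp]
      refine (congrArg (_ ≫ ·) ((congrArg _ (Subsingleton.elim _ (𝟙 _))).trans ((Spec Γ(C, V)).presheaf.map_id _))).trans
        (Category.comp_id _)
    have e2 : (Spec.map θ).appLE ⊤ ⊤ le_top = (Spec.map θ).appTop := Scheme.Hom.appLE_eq_app _
    have e3 : hW.isoSpec.hom.appLE ⊤ ⊤ le_top = hW.isoSpec.hom.appTop := Scheme.Hom.appLE_eq_app _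
    rw [← Scheme.Hom.appLE_comp_appLE hW.isoSpec.hom (Spec.map θ ≫ hV.fromSpec) V ⊤ ⊤
      (by simp [Scheme.Hom.comp_preimage, hV.fromSpec_preimage_self]) le_top,
      ← Scheme.Hom.appLE_comp_appLE (Spec.map θ) hV.fromSpec V ⊤ ⊤ (by rw [hV.fromSpec_preimage_self]) le_top,
      e1, e2, e3, hW.isoSpec_hom_appTop, ← Scheme.ΓSpecIso_inv_naturality, Category.assoc, Iso.inv_hom_id_assoc]

theorem exists_normalized {U : X.left.Opens} {y : Γ(B.V.left, B.π.left ⁻¹ᵁ U)} (hy : y ∈ B.atlas.chart U)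
    (x : 𝟙_ (Over (Sk k)) ⟶ X) (hx : ⊤ ≤ x.left ⁻¹ᵁ U) :
    ∃ (v : 𝟙_ (Over (Sk k)) ⟶ B.V) (hv : v ≫ B.π = x), cval B y v (by rw [hv]; exact hx) = 1 := by
  obtain ⟨W, hW, hxW, hWU⟩ := exists_isAffineOpen_mem_and_subset (U := U)
    (show x.left (IsLocalRing.closedPoint k) ∈ U from hx (x := IsLocalRing.closedPoint k) trivial)
  obtain ⟨σ, hσ, hσy⟩ := exists_section B hy hW hWU
  have hr : Set.range x.left ⊆ Set.range W.ι := by
    rintro _ ⟨z, rfl⟩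
    refine W.range_ι.ge ?_
    rw [Subsingleton.elim (α := PrimeSpectrum k) z (IsLocalRing.closedPoint k)]
    exact hxW
  let q : 𝟙_ (Over (Sk k)) ⟶ Over.mk (W.ι ≫ X.hom) := Over.homMk (IsOpenImmersion.lift W.ι x.left hr) (by
    show IsOpenImmersion.lift W.ι x.left hr ≫ W.ι ≫ X.hom = _
    rw [IsOpenImmersion.lift_fac_assoc, Over.w x])
  have hq : q ≫ Over.homMk W.ι rfl = x := Over.OverMorphism.ext (IsOpenImmersion.lift_fac _ _ _)
  refine ⟨q ≫ σ, by rw [Category.assoc, hσ, hq], ?_⟩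
  exact hσy q _

/-- Translation multiplies a fibre coordinate by a scalar, on rational points. -/
theorem exists_cval_scalar {U₀ U₁ : X.left.Opens} {y₀ : Γ(B.V.left, B.π.left ⁻¹ᵁ U₀)}
    {y₁ : Γ(B.V.left, B.π.left ⁻¹ᵁ U₁)} (hy₀ : y₀ ∈ B.atlas.chart U₀) (hy₁ : y₁ ∈ B.atlas.chart U₁)
    (g : 𝟙_ (Over (Sk k)) ⟶ G) (x₀ : 𝟙_ (Over (Sk k)) ⟶ X) (h₀ : ⊤ ≤ x₀.left ⁻¹ᵁ U₀)
    (h₁ : ⊤ ≤ (lift g x₀ ≫ a.act).left ⁻¹ᵁ U₁) :
    ∃ c : k, ∀ (v : 𝟙_ (Over (Sk k)) ⟶ B.V) (hv : v ≫ B.π = x₀)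
      (hv' : ⊤ ≤ ((lift g v ≫ B.lift.act) ≫ B.π).left ⁻¹ᵁ U₁),
      cval B y₁ (lift g v ≫ B.lift.act) hv' = c * cval B y₀ v (by rw [hv]; exact h₀) := by
  obtain ⟨c, hc⟩ := exists_scalar B hy₀ hy₁ g x₀ _ rfl (top_le_iff.1 h₀) (top_le_iff.1 h₁)
  refine ⟨gamma k c, fun v hv hv' => ?_⟩
  have e1 : (lift g v ≫ B.lift.act) ≫ B.π = lift g x₀ ≫ a.act := by
    rw [Category.assoc, B.lift_π, lift_whiskerLeft_assoc, hv]
  have h := hc (𝟙_ _) (𝟙 _) v (by rw [hv, Category.id_comp]) (by rw [Category.id_comp, Category.id_comp]; exact e1)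
  have h2 := congrArg (gamma k) h
  rw [map_mul] at h2
  refine Eq.trans ?_ (h2.trans (congrArg (fun z => gamma k z * _) ?_))
  · exact congrArg (gamma k) (evalFn_congr B.π y₁ (by rw [Category.id_comp]) _ _)
  · show (𝟙 (𝟙_ (Over (Sk k))).left : _ ⟶ _).appTop c = c
    rw [Scheme.Hom.id_appTop]
    rfl

end H20Mu
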