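import Groth.Agent.H20Mu.Conj
import Groth.Agent.H15Magnet.CharPt
import Groth.Agent.H15Magnet.ComapGroup
import Groth.Agent.H15Magnet.GlobalPt
import Mathlib.AlgebraicGeometry.Morphisms.Separated
import Mathlib.RingTheory.MvPolynomial.Basic

/-!
# Uniqueness of limits of one-parameter orbits
-/

set_option autoImplicit false
set_option linter.style.haveILetI false
set_option backward.isDefEq.respectTransparency false

universe u

open CategoryTheory CategoryTheory.Limits MonoidalCategory CartesianMonoidalCategory MonObj AlgebraicGeometry Opposite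
open Groth.Agent.H15Magnet

noncomputable section

namespace H20Mu

variable {k : Type u} [Field k]

/-- `k[ℕ]`, with the exponents spelled through `HMNum.plus`. -/
abbrev LineRing (k : Type u) [Field k] : Type u := MonoidAlgebra k (Multiplicative ↥HMNum.plus)

abbrev TorusRing (k : Type u) [Field k] : Type u := MonoidAlgebra k (Multiplicative ℤ)

theorem injective_inc : Function.Injective (MonoidAlgebra.mapDomainRingHom k
    (AddMonoidHom.toMultiplicative HMNum.plus.subtype) : LineRing k →+* TorusRing k) :=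
  fun _ _ h => MonoidAlgebra.mapDomain_injective (fun _ _ e => Subtype.ext e) h

theorem isDomain_lineRing : IsDomain (LineRing k) := (injective_inc (k := k)).isDomain _

/-- Maps out of the affine line over a field agreeing on the torus agree. -/
theorem ext_of_incl {X : Over (Spec (CommRingCat.of k))} [IsSeparated X.hom]
    {f g : HMNum.A1 (Spec (CommRingCat.of k)) ⟶ X}
    (h : HMNum.incl (Spec (CommRingCat.of k)) ≫ f = HMNum.incl (Spec (CommRingCat.of k)) ≫ g) : f = g := by
  let str : Spec (CommRingCat.of k) ⟶ Spec (CommRingCat.of k) := 𝟙 _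
  let φN : k →+* LineRing k := MonoidAlgebra.singleOneRingHom
  let φZ : k →+* TorusRing k := MonoidAlgebra.singleOneRingHom
  let inc : LineRing k →+* TorusRing k :=
    MonoidAlgebra.mapDomainRingHom k (AddMonoidHom.toMultiplicative HMNum.plus.subtype)
  have hinc : inc.comp φN = φZ := RingHom.ext fun r => by simp [inc, φN, φZ]
  let evN : PB str φN ⟶ HMNum.A1 (Spec (CommRingCat.of k)) := mpt _ (MonoidAlgebra.of k _)
  let evZ : PB str φZ ⟶ Magnet.AMonS (Spec (CommRingCat.of k)) ℤ := mpt _ (MonoidAlgebra.of k _)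
  have hsq : evZ ≫ HMNum.incl _ = spR str inc hinc ≫ evN := by
    rw [spR_mpt]
    refine (mpt_map _ _ _).trans (congrArg (mpt _) (MonoidHom.ext fun m => ?_))
    simp [inc]
  have hev : evN ≫ f = evN ≫ g := by
    have hd : IsDominant (spR str inc hinc).left := by
      rw [spR_left, isDominant_iff]
      exact (PrimeSpectrum.denseRange_comap_iff_ker_le_nilRadical _).2
        ((le_of_eq ((RingHom.injective_iff_ker_eq_bot inc).1 injective_inc)).trans bot_le)
    have := isDomain_lineRing (k := k)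
    have : IsReduced (PB str φN).left := by
      show IsReduced (Spec (CommRingCat.of (LineRing k)))
      infer_instance
    apply Over.OverMorphism.ext
    refine ext_of_isDominant_of_isSeparated X.hom ((Over.w (evN ≫ f)).trans (Over.w (evN ≫ g)).symm)
      (spR str inc hinc).left ?_
    have := congrArg (fun z => CommaMorphism.left (evZ ≫ z)) h
    simp only [← Category.assoc, hsq] at this
    simpa only [Over.comp_left, Category.assoc] using this
  refine amonS_ext_pts fun B _ y χ => ?_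
  obtain ⟨φ, hφ⟩ : ∃ φ : k →+* B, Spec.map (CommRingCat.ofHom φ) ≫ str = y := by
    obtain ⟨α, hα⟩ := Spec.map_surjective y
    exact ⟨α.hom, by simpa [str] using hα⟩
  subst hφ
  let F : LineRing k →+* B := MonoidAlgebra.liftNCRingHom φ χ fun _ _ => Commute.all _ _
  have hF : F.comp φN = φ := RingHom.ext fun r => by simp [F, φN]
  have hχ : F.toMonoidHom.comp (MonoidAlgebra.of k _) = χ := MonoidHom.ext fun m => by simp [F]
  have e : mpt (Spec.map (CommRingCat.ofHom φ) ≫ str) χ = spR str F hF ≫ evN := by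
    rw [spR_mpt, hχ]
  rw [e, Category.assoc, Category.assoc, hev]

variable {G X : Over (Spec (CommRingCat.of k))} [GrpObj G] {a : AlgGrp.Action G X}

/-- An attractor point restricted to the torus is the orbit map. -/
theorem incl_attr_eq (l : Red.Gm (Spec (CommRingCat.of k)) ⟶ G) [IsMonHom l]
    {x : 𝟙_ (Over (Spec (CommRingCat.of k))) ⟶ X}
    (φ : (HMNum.attrPlus a l).obj (op (𝟙_ _)))
    (hφ : (Magnet.attrToX (HMNum.gmAct a l) HMNum.plus).app (op (𝟙_ _)) φ = x) :
    lift (HMNum.incl (Spec (CommRingCat.of k))) (toUnit _) ≫ φ.1 = lift l (toUnit _ ≫ x) ≫ a.act := by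
  change lift (toUnit _ ≫ η[HMNum.A1 _]) (𝟙 _) ≫ φ.1 = x at hφ
  have h := (Magnet.MonAct.mem_eqvHom_iff φ.1).1 φ.2 (Red.Gm (Spec (CommRingCat.of k))) (𝟙 _)
    (toUnit _ ≫ η[HMNum.A1 _]) (toUnit _)
  simp only [Magnet.MonAct.lift_restrict_act, Magnet.MonAct.ofAction_act, Magnet.subAct,
    Magnet.MonAct.lift_regular_act, Category.id_comp] at h
  rw [← Hom.one_def] at h
  rw [_root_.mul_one] at h
  refine h.trans ?_
  rw [← hφ, comp_lift_assoc, Category.comp_id, ← Category.assoc (toUnit _), comp_toUnit, ← Hom.one_def]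

theorem isLimitPt_unique [IsSeparated X.hom] (l : Red.Gm (Spec (CommRingCat.of k)) ⟶ G) [IsMonHom l]
    (x y y' : 𝟙_ (Over (Spec (CommRingCat.of k))) ⟶ X)
    (h : HMNum.IsLimitPt a l x y) (h' : HMNum.IsLimitPt a l x y') : y = y' := by
  obtain ⟨φ, hφ, rfl⟩ := h
  obtain ⟨ψ, hψ, rfl⟩ := h'
  have e : lift (𝟙 (HMNum.A1 (Spec (CommRingCat.of k)))) (toUnit _) ≫ φ.1 =
      lift (𝟙 _) (toUnit _) ≫ ψ.1 := by
    refine ext_of_incl ?_
    rw [comp_lift_assoc, comp_lift_assoc, Category.comp_id, comp_toUnit, incl_attr_eq l φ hφ,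
      incl_attr_eq l ψ hψ]
  have e' := congrArg (fun z => (toUnit (𝟙_ (Over (Spec (CommRingCat.of k)))) ≫ HMNum.origin _) ≫ z) e
  simp only [comp_lift_assoc, Category.comp_id, comp_toUnit,
    toUnit_unique (toUnit (𝟙_ (Over (Spec (CommRingCat.of k))))) (𝟙 _)] at e'
  rw [HMNum.limitPt_eq, HMNum.limitPt_eq, toUnit_unique (toUnit (𝟙_ _)) (𝟙 _)]
  exact e'

/-- The limit point is fixed. -/
theorem isLimitPt_self (l : Red.Gm (Spec (CommRingCat.of k)) ⟶ G) [IsMonHom l]
    {T : Over (Spec (CommRingCat.of k))} (y : T ⟶ X) (hy : HMNum.IsFixedBy a l y) :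
    HMNum.IsLimitPt a l y y := by
  refine ⟨⟨snd _ _ ≫ y, (Magnet.MonAct.mem_eqvHom_iff _).2 fun T' u b t => ?_⟩, ?_, ?_⟩
  · simp only [lift_snd_assoc, Magnet.MonAct.lift_restrict_act, Magnet.MonAct.ofAction_act]
    exact (hy T' t u).symm
  · change lift (toUnit T ≫ η[HMNum.A1 _]) (𝟙 T) ≫ snd _ _ ≫ y = y
    rw [lift_snd_assoc, Category.id_comp]
  · rw [HMNum.limitPt_eq]
    change lift (toUnit T ≫ HMNum.origin _) (𝟙 T) ≫ snd _ _ ≫ y = y
    rw [lift_snd_assoc, Category.id_comp]

/-- A limit point is fixed. -/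
theorem isFixedBy_of_isLimitPt (l : Red.Gm (Spec (CommRingCat.of k)) ⟶ G) [IsMonHom l]
    {T : Over (Spec (CommRingCat.of k))} (x y : T ⟶ X) (hy : HMNum.IsLimitPt a l x y) :
    HMNum.IsFixedBy a l y := by
  obtain ⟨φ, -, rfl⟩ := hy
  intro T' t u
  have h := (Magnet.MonAct.mem_eqvHom_iff φ.1).1 φ.2 T' u (toUnit T' ≫ HMNum.origin _) t
  have e : lift u (toUnit T' ≫ HMNum.origin (Spec (CommRingCat.of k))) ≫
      (Magnet.subAct (Spec (CommRingCat.of k)) ℤ HMNum.plus).act = toUnit T' ≫ HMNum.origin _ := by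
    simp only [Magnet.subAct, Magnet.MonAct.lift_restrict_act, Magnet.MonAct.lift_regular_act]
    rw [HMNum.origin, ← Category.assoc (toUnit T')]
    refine (mul_face_one HMNum.isFace_bot (u ≫ HMNum.incl (Spec (CommRingCat.of k)))).trans ?_
    rw [← Category.assoc _ (Magnet.AMonS.map _ _)]
    have : Subsingleton (↥(⊥ : AddSubmonoid ℤ)) :=
      ⟨fun x y => Subtype.ext ((AddSubmonoid.mem_bot.1 x.2).trans (AddSubmonoid.mem_bot.1 y.2).symm)⟩
    exact congrArg (· ≫ Magnet.AMonS.faceMap _ HMNum.isFace_bot) (subsingleton_pts T' _)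
  rw [e] at h
  simp only [Magnet.MonAct.lift_restrict_act, Magnet.MonAct.ofAction_act] at h
  rw [HMNum.limitPt_eq, comp_lift_assoc, Category.comp_id, ← Category.assoc t, comp_toUnit]
  exact h.symm

end H20Mu
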