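import Groth.Agent.H20Mu.Limit

/-!
# The numerical function and the parabolic subgroup of a one-parameter subgroup
-/

set_option autoImplicit false
set_option linter.style.haveILetI false
set_option backward.isDefEq.respectTransparency false

universe u

open CategoryTheory CategoryTheory.Limits MonoidalCategory CartesianMonoidalCategory MonObj AlgebraicGeometry Opposite
open Groth.Agent.H15Magnet

noncomputable section

namespace H20Mu

variable {k : Type u} [Field k]

abbrev LineTorusRing (k : Type u) [Field k] : Type u :=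
  MonoidAlgebra k (Multiplicative (↥HMNum.plus × ℤ))

abbrev TwoTorusRing (k : Type u) [Field k] : Type u := MonoidAlgebra k (Multiplicative (ℤ × ℤ))

theorem injective_inc₂ : Function.Injective (MonoidAlgebra.mapDomainRingHom k
    (AddMonoidHom.toMultiplicative (HMNum.plus.subtype.prodMap (AddMonoidHom.id ℤ))) :
    LineTorusRing k →+* TwoTorusRing k) :=
  fun _ _ h => MonoidAlgebra.mapDomain_injective
    (fun a b e => (Prod.map_injective.2 ⟨Subtype.val_injective, Function.injective_id⟩ :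
      Function.Injective (Prod.map (Subtype.val : ↥HMNum.plus → ℤ) (id : ℤ → ℤ))) e) h

/-- Maps out of `𝔸¹ × 𝔾ₘ` agreeing on `𝔾ₘ × 𝔾ₘ` agree. -/
theorem ext_of_incl_whisker {W : Over (Spec (CommRingCat.of k))} [IsSeparated W.hom]
    {f g : HMNum.A1 (Spec (CommRingCat.of k)) ⊗ Red.Gm (Spec (CommRingCat.of k)) ⟶ W}
    (h : (HMNum.incl (Spec (CommRingCat.of k)) ▷ _) ≫ f = (HMNum.incl _ ▷ _) ≫ g) : f = g := by
  let str : Spec (CommRingCat.of k) ⟶ Spec (CommRingCat.of k) := 𝟙 _
  let φN : k →+* LineTorusRing k := MonoidAlgebra.singleOneRingHom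
  let φZ : k →+* TwoTorusRing k := MonoidAlgebra.singleOneRingHom
  let inc : LineTorusRing k →+* TwoTorusRing k := MonoidAlgebra.mapDomainRingHom k
    (AddMonoidHom.toMultiplicative (HMNum.plus.subtype.prodMap (AddMonoidHom.id ℤ)))
  have hinc : inc.comp φN = φZ := RingHom.ext fun r => by simp [inc, φN, φZ]; rfl
  let evN : PB str φN ⟶ HMNum.A1 (Spec (CommRingCat.of k)) ⊗ Red.Gm (Spec (CommRingCat.of k)) :=
    lift (mpt _ ((MonoidAlgebra.of k _).comp (AddMonoidHom.toMultiplicative (AddMonoidHom.inl _ _))))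
      (mpt _ ((MonoidAlgebra.of k _).comp (AddMonoidHom.toMultiplicative (AddMonoidHom.inr _ _))))
  let evZ : PB str φZ ⟶ Magnet.AMonS (Spec (CommRingCat.of k)) ℤ ⊗ Red.Gm (Spec (CommRingCat.of k)) :=
    lift (mpt _ ((MonoidAlgebra.of k _).comp (AddMonoidHom.toMultiplicative (AddMonoidHom.inl _ _))))
      (mpt _ ((MonoidAlgebra.of k _).comp (AddMonoidHom.toMultiplicative (AddMonoidHom.inr _ _))))
  have hsq : evZ ≫ (HMNum.incl _ ▷ _) = spR str inc hinc ≫ evN := by
    rw [lift_whiskerRight, comp_lift]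
    refine congrArg₂ lift ?_ ?_
    · refine (mpt_map _ _ _).trans (Eq.trans (congrArg (mpt _) ?_) (spR_mpt str inc hinc _).symm)
      exact MonoidHom.ext fun m => by simp [inc]
    · refine Eq.trans (congrArg (mpt _) ?_) (spR_mpt str inc hinc _).symm
      exact MonoidHom.ext fun m => by simp [inc]
  have hev : evN ≫ f = evN ≫ g := by
    have hd : IsDominant (spR str inc hinc).left := by
      rw [spR_left, isDominant_iff]
      exact (PrimeSpectrum.denseRange_comap_iff_ker_le_nilRadical _).2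
        ((le_of_eq ((RingHom.injective_iff_ker_eq_bot inc).1 injective_inc₂)).trans bot_le)
    have : IsDomain (LineTorusRing k) := (injective_inc₂ (k := k)).isDomain _
    have : IsReduced (PB str φN).left := by
      show IsReduced (Spec (CommRingCat.of (LineTorusRing k)))
      infer_instance
    apply Over.OverMorphism.ext
    refine ext_of_isDominant_of_isSeparated W.hom ((Over.w (evN ≫ f)).trans (Over.w (evN ≫ g)).symm)
      (spR str inc hinc).left ?_
    have := congrArg (fun z => CommaMorphism.left (evZ ≫ z)) h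
    simp only [← Category.assoc, hsq] at this
    simpa only [Over.comp_left, Category.assoc] using this
  refine tensor_ext fun B _ y χ t => ?_
  obtain ⟨χ', rfl⟩ := mpt_surjective (M := ℤ) y t
  obtain ⟨φ, hφ⟩ : ∃ φ : k →+* B, Spec.map (CommRingCat.ofHom φ) ≫ str = y := by
    obtain ⟨α, hα⟩ := Spec.map_surjective y
    exact ⟨α.hom, by simpa [str] using hα⟩
  subst hφ
  let χ₂ : Multiplicative (↥HMNum.plus × ℤ) →* B :=
    (χ.comp (AddMonoidHom.toMultiplicative (AddMonoidHom.fst _ _))) *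
      (χ'.comp (AddMonoidHom.toMultiplicative (AddMonoidHom.snd _ _)))
  let F : LineTorusRing k →+* B := MonoidAlgebra.liftNCRingHom φ χ₂ fun _ _ => Commute.all _ _
  have hF : F.comp φN = φ := RingHom.ext fun r => by simp [F, φN]
  have e : lift (mpt (Spec.map (CommRingCat.ofHom φ) ≫ str) χ)
      (mpt (Spec.map (CommRingCat.ofHom φ) ≫ str) χ') = spR str F hF ≫ evN := by
    rw [comp_lift, spR_mpt, spR_mpt]
    refine congrArg₂ lift (congrArg (mpt _) ?_) (congrArg (mpt _) ?_)
    · exact MonoidHom.ext fun m => by simp [F, χ₂]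
    · exact MonoidHom.ext fun m => by simp [F, χ₂]
  rw [e, Category.assoc, Category.assoc, hev]

variable {G X : Over (Spec (CommRingCat.of k))} [GrpObj G] {a : AlgGrp.Action G X}

variable [IsSeparated G.hom] (l : Red.Gm (Spec (CommRingCat.of k)) ⟶ G) [IsMonHom l]
  (g₀ : 𝟙_ (Over (Spec (CommRingCat.of k))) ⟶ G) (f : HMNum.A1 (Spec (CommRingCat.of k)) ⟶ G)
  (hf : HMNum.incl (Spec (CommRingCat.of k)) ≫ f = l * (toUnit _ ≫ g₀) * l⁻¹)

include hf in
/-- the extension is equivariant for conjugation -/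
theorem conj_extension {T : Over (Spec (CommRingCat.of k))} (u : T ⟶ Red.Gm (Spec (CommRingCat.of k)))
    (b : T ⟶ HMNum.A1 (Spec (CommRingCat.of k))) :
    ((u ≫ HMNum.incl _) * b) ≫ f = (u ≫ l) * (b ≫ f) * (u ≫ l)⁻¹ := by
  let p := fst (HMNum.A1 (Spec (CommRingCat.of k))) (Red.Gm (Spec (CommRingCat.of k)))
  let q := snd (HMNum.A1 (Spec (CommRingCat.of k))) (Red.Gm (Spec (CommRingCat.of k)))
  have key : ((q ≫ HMNum.incl _) * p) ≫ f = (q ≫ l) * (p ≫ f) * (q ≫ l)⁻¹ := by
    refine ext_of_incl_whisker ?_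
    have hp : (HMNum.incl (Spec (CommRingCat.of k)) ▷ _) ≫ p =
        fst _ _ ≫ HMNum.incl _ := whiskerRight_fst _ _
    have hq : (HMNum.incl (Spec (CommRingCat.of k)) ▷ Red.Gm (Spec (CommRingCat.of k))) ≫ q =
        snd _ _ := whiskerRight_snd _ _
    simp only [MonObj.comp_mul, GrpObj.comp_inv, ← Category.assoc]
    rw [hq, hp]
    simp only [Category.assoc]
    rw [hf]
    have e : (snd (Red.Gm (Spec (CommRingCat.of k))) (Red.Gm (Spec (CommRingCat.of k))) ≫
          HMNum.incl _) * (fst _ _ ≫ HMNum.incl _) =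
        (snd (Red.Gm (Spec (CommRingCat.of k))) (Red.Gm (Spec (CommRingCat.of k))) * fst _ _) ≫
          HMNum.incl _ := (MonObj.mul_comp _ _ _).symm
    refine (congrArg (· ≫ f) e).trans ?_
    rw [Category.assoc, hf]
    simp only [MonObj.comp_mul, GrpObj.comp_inv, MonObj.mul_comp, ← Category.assoc, comp_toUnit,
      mul_inv_rev]
    group
  have := congrArg (fun z => lift b u ≫ z) key
  simpa only [MonObj.comp_mul, GrpObj.comp_inv, ← Category.assoc, p, q, lift_fst, lift_snd] using this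

include hf in
theorem origin_comp_commute {T : Over (Spec (CommRingCat.of k))}
    (u : T ⟶ Red.Gm (Spec (CommRingCat.of k))) :
    Commute (u ≫ l) (toUnit T ≫ HMNum.origin _ ≫ f) := by
  have h := conj_extension l g₀ f hf u (toUnit T ≫ HMNum.origin _)
  have e : (u ≫ HMNum.incl (Spec (CommRingCat.of k))) * (toUnit T ≫ HMNum.origin _) =
      toUnit T ≫ HMNum.origin _ := by
    rw [HMNum.origin, ← Category.assoc (toUnit T)]
    refine (mul_face_one HMNum.isFace_bot (u ≫ HMNum.incl (Spec (CommRingCat.of k)))).trans ?_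
    rw [← Category.assoc _ (Magnet.AMonS.map _ _)]
    have : Subsingleton (↥(⊥ : AddSubmonoid ℤ)) :=
      ⟨fun x y => Subtype.ext ((AddSubmonoid.mem_bot.1 x.2).trans (AddSubmonoid.mem_bot.1 y.2).symm)⟩
    exact congrArg (· ≫ Magnet.AMonS.faceMap _ HMNum.isFace_bot) (subsingleton_pts T _)
  rw [e, Category.assoc] at h
  exact (eq_mul_inv_iff_mul_eq.1 h).symm

include hf in
theorem one_comp_extension :
    (toUnit (𝟙_ (Over (Spec (CommRingCat.of k)))) ≫ η[HMNum.A1 (Spec (CommRingCat.of k))]) ≫ f = g₀ := by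
  have h := congrArg (fun z => (1 : 𝟙_ (Over (Spec (CommRingCat.of k))) ⟶ Red.Gm (Spec (CommRingCat.of k))) ≫ z) hf
  simp only [← Category.assoc, MonObj.one_comp, MonObj.comp_mul, GrpObj.comp_inv, comp_toUnit,
    toUnit_unique (toUnit (𝟙_ (Over (Spec (CommRingCat.of k))))) (𝟙 _), Category.id_comp, inv_one,
    _root_.one_mul, _root_.mul_one] at h ⊢
  rw [← h, Hom.one_def, toUnit_unique (toUnit (𝟙_ (Over (Spec (CommRingCat.of k))))) (𝟙 _),
    Category.id_comp]

include hf in
/-- `μ(x, λ) = μ(g x, λ)` for `g ∈ P(λ)`: one implication. -/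
theorem isMu_parabolic (B : GLinSh.LinBun G a) (x : 𝟙_ (Over (Spec (CommRingCat.of k))) ⟶ X) (m : ℤ)
    [Subsingleton (Spec (CommRingCat.of k))] [Nonempty (Spec (CommRingCat.of k))]
    (h : HMNum.IsMu B l x m) : HMNum.IsMu B l (lift g₀ x ≫ a.act) m := by
  obtain ⟨y, ⟨φ, hφx, hφy⟩, hw⟩ := h
  set o : 𝟙_ (Over (Spec (CommRingCat.of k))) ⟶ G := HMNum.origin _ ≫ f with ho
  have hφ := (Magnet.MonAct.mem_eqvHom_iff φ.1).1 φ.2
  refine ⟨lift (toUnit _ ≫ o) y ≫ a.act, ⟨⟨lift (fst _ _ ≫ f) φ.1 ≫ a.act,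
    (Magnet.MonAct.mem_eqvHom_iff _).2 fun T' u b t => ?_⟩, ?_, ?_⟩, ?_⟩
  · rw [comp_lift_assoc, comp_lift_assoc, hφ T' u b t, lift_fst_assoc, lift_fst_assoc]
    simp only [Magnet.MonAct.lift_restrict_act, Magnet.MonAct.ofAction_act, Magnet.subAct,
      Magnet.MonAct.lift_regular_act]
    have e := conj_extension l g₀ f hf u b
    refine (congrArg (fun z => lift z (lift (u ≫ l) (lift b t ≫ φ.1) ≫ a.act) ≫ a.act) e).trans ?_
    rw [← mul_act', ← mul_act', inv_mul_cancel_right]
  · change lift (toUnit _ ≫ η[HMNum.A1 _]) (𝟙 _) ≫ φ.1 = x at hφx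
    change lift (toUnit _ ≫ η[HMNum.A1 _]) (𝟙 _) ≫ lift (fst _ _ ≫ f) φ.1 ≫ a.act = _
    rw [comp_lift_assoc, hφx, lift_fst_assoc, ← one_comp_extension l g₀ f hf, Category.assoc]
  · rw [HMNum.limitPt_eq] at hφy ⊢
    rw [comp_lift_assoc, hφy, lift_fst_assoc, ho]
    exact congrArg (fun z => lift z y ≫ a.act) (Category.assoc _ _ _)
  · have hc : l ≫ conj o⁻¹ = l := by
      rw [comp_conj, GrpObj.comp_inv, inv_inv]
      have := origin_comp_commute l g₀ f hf (𝟙 (Red.Gm (Spec (CommRingCat.of k))))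
      rw [Category.id_comp] at this
      rw [ho, ← this.eq, mul_inv_cancel_right]
    have := hasFibreWeight_translate B l o⁻¹ (lift (toUnit _ ≫ o) y ≫ a.act) (-m) (exists_chart B _) ?_
    · rwa [hc] at this
    · rwa [GrpObj.comp_inv, inv_act_act]

end H20Mu
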