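import Groth.Agent.H20Mu.Values
import Groth.Agent.H20Mu.Para
import Groth.Agent.H28Neron.Extend
import Groth.Agent.H05EGA4.DimFibre

/-!
# Existence of limits of one-parameter orbits in proper schemes
-/

set_option autoImplicit false
set_option linter.style.haveILetI false
set_option backward.isDefEq.respectTransparency false

universe u

open CategoryTheory CategoryTheory.Limits MonoidalCategory CartesianMonoidalCategory MonObj AlgebraicGeometry Opposite
open Groth.Agent.H27Witt Groth.Agent.H15Magnet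

noncomputable section

namespace H20Mu

variable {k : Type u} [Field k]

local notation "Gm" => Red.Gm (Sk k)
local notation "𝔸" => HMNum.A1 (Sk k)

/-- The generator of `ℕ ⊆ ℤ`. -/
def plusOne : ↥HMNum.plus := ⟨1, (HMNum.mem_plus_iff 1).2 zero_le_one⟩

/-- The coordinate of `ℤ[ℕ]`. -/
def lineCoord : Γ((Magnet.AMon (Z.{u}) ↥HMNum.plus).left, ⊤) :=
  (Scheme.ΓSpecIso (CommRingCat.of (MonoidAlgebra (Z.{u}) (Multiplicative ↥HMNum.plus)))).inv
    (MonoidAlgebra.single (Multiplicative.ofAdd plusOne) 1)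

/-- The coordinate of the affine line. -/
def tFn : Fn (HMNum.A1 (Sk k)) :=
  (pullback.fst (Magnet.AMon (Z.{u}) ↥HMNum.plus).hom (toZ (Sk k))).appTop lineCoord

theorem spec_appTop_inv {A B : Type u} [CommRing A] [CommRing B] (f : A →+* B) (z : A) :
    (Spec.map (CommRingCat.ofHom f)).appTop ((Scheme.ΓSpecIso (CommRingCat.of A)).inv z) =
      (Scheme.ΓSpecIso (CommRingCat.of B)).inv (f z) :=
  congr($(Scheme.ΓSpecIso_inv_naturality (CommRingCat.ofHom f)).hom z).symm

theorem pull_tFn {T : Over (Sk k)} (b : T ⟶ 𝔸) :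
    (Fn.pull b tFn : Γ(T.left, ⊤)) =
      (b.left ≫ pullback.fst (Magnet.AMon (Z.{u}) ↥HMNum.plus).hom (toZ (Sk k))).appTop lineCoord := rfl

set_option maxHeartbeats 800000 in
theorem pull_incl_tFn : Fn.pull (HMNum.incl (Sk k)) tFn = ((zFn : (Fn Gm)ˣ) : Fn Gm) := by
  refine (pull_tFn _).trans ?_
  have h : (HMNum.incl (Sk k)).left ≫ pullback.fst (Magnet.AMon (Z.{u}) ↥HMNum.plus).hom (toZ (Sk k)) =
      pullback.fst (Magnet.AMon (Z.{u}) ℤ).hom (toZ (Sk k)) ≫
        (Magnet.AMon.map (Z.{u}) HMNum.plus.subtype).left := pullback.lift_fst _ _ _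
  rw [h, Scheme.Hom.comp_appTop, CommRingCat.comp_apply]
  refine Eq.trans ?_ (GmPts.val_unitOfPt _).symm
  refine congrArg (pullback.fst (Magnet.AMon (Z.{u}) ℤ).hom (toZ (Sk k))).appTop ?_
  rw [Magnet.AMon.map_left, lineCoord]
  erw [spec_appTop_inv]
  refine congrArg (Scheme.ΓSpecIso (CommRingCat.of GmPts.Coord.{u})).inv ?_
  simp [plusOne]

set_option maxHeartbeats 800000 in
theorem pull_origin_tFn : Fn.pull (HMNum.origin (Sk k)) tFn = 0 := by
  refine (pull_tFn _).trans ?_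
  have h : (Magnet.AMonS.faceMap (Sk k) HMNum.isFace_bot).left ≫
      pullback.fst (Magnet.AMon (Z.{u}) ↥HMNum.plus).hom (toZ (Sk k)) =
      pullback.fst (Magnet.AMon (Z.{u}) ↥(⊥ : AddSubmonoid ℤ)).hom (toZ (Sk k)) ≫
        (Magnet.AMon.faceMap (Z.{u}) HMNum.isFace_bot).left := pullback.lift_fst _ _ _
  rw [HMNum.origin, Over.comp_left, Category.assoc, h, Scheme.Hom.comp_appTop, CommRingCat.comp_apply,
    Scheme.Hom.comp_appTop, CommRingCat.comp_apply, Magnet.AMon.faceMap_left]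
  unfold lineCoord
  erw [spec_appTop_inv]
  have hne : (plusOne : ℤ) ∉ (⊥ : AddSubmonoid ℤ) := by simp [plusOne]
  have e0 : Magnet.faceMonoidHom (Z.{u}) HMNum.isFace_bot (Multiplicative.ofAdd plusOne) = 0 :=
    Magnet.faceMonoidHom_apply_of_not_mem _ HMNum.isFace_bot plusOne hne
  simp only [AlgHom.toRingHom_eq_coe, RingHom.coe_coe, Magnet.faceAlgHom, MonoidAlgebra.lift_single, e0, smul_zero, map_zero]

/-- The affine line as a spectrum. -/
abbrev Pl (k : Type u) [Field k] : Over (Sk k) :=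
  Over.mk (Spec.map (CommRingCat.ofHom (algebraMap k (Polynomial k))))

/-- Its functions. -/
def plEquiv : Polynomial k ≃ₐ[k] Fn (Pl k) := Fn.specAlg (k := k) (Polynomial k)

theorem exists_plPt (c : k) : ∃ p : 𝟙_ (Over (Sk k)) ⟶ Pl k, val p (plEquiv Polynomial.X) = c := by
  haveI : IsAffine (Pl k).left := inferInstanceAs (IsAffine (Spec _))
  obtain ⟨p, hp⟩ := Fn.exists_point (X := Pl k) ((Polynomial.aeval c).comp plEquiv.symm.toAlgHom)
  refine ⟨p, ?_⟩
  show Fn.ev p (plEquiv Polynomial.X) = c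
  rw [hp]
  simp

/-- The point of the line with a given coordinate. -/
def plPt (c : k) : 𝟙_ (Over (Sk k)) ⟶ Pl k := (exists_plPt c).choose

theorem val_plPt (c : k) (f : Polynomial k) : val (plPt c) (plEquiv f) = f.eval c := by
  have h : (val (plPt c)).comp (plEquiv (k := k)).toAlgHom = Polynomial.aeval c :=
    Polynomial.algHom_ext (by
      have := (exists_plPt c).choose_spec
      simpa [plPt] using this)
  have := AlgHom.congr_fun h f
  simpa [Polynomial.aeval_def] using this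

theorem plPt_unique {p : 𝟙_ (Over (Sk k)) ⟶ Pl k} {c : k} (h : val p (plEquiv Polynomial.X) = c) :
    p = plPt c := by
  haveI : IsAffine (Pl k).left := inferInstanceAs (IsAffine (Spec _))
  refine Fn.point_ext (k := k) ?_
  have h1 : (val p).comp (plEquiv (k := k)).toAlgHom = (val (plPt c)).comp (plEquiv (k := k)).toAlgHom :=
    Polynomial.algHom_ext (by simp [h, val_plPt])
  refine AlgHom.ext fun a => ?_
  obtain ⟨b, rfl⟩ := (plEquiv (k := k)).surjective a
  exact AlgHom.congr_fun h1 b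

variable {G X : Over (Sk k)} [GrpObj G] (a : AlgGrp.Action G X)

/-- **Existence of limits**: the orbit map of a one-parameter subgroup extends to the line. -/
theorem exists_line_extension [IsProper X.hom] (l : Gm ⟶ G) [IsMonHom l] (x : 𝟙_ (Over (Sk k)) ⟶ X) :
    ∃ g : Pl k ⟶ X, HMNum.IsLimitPt a l x (plPt 0 ≫ g) ∧
      ∀ u : 𝟙_ (Over (Sk k)) ⟶ Gm, plPt (par u : k) ≫ g = lift (u ≫ l) x ≫ a.act := by
  haveI : IsAffine (Pl k).left := inferInstanceAs (IsAffine (Spec _))
  let U : (Pl k).left.Opens := (Pl k).left.basicOpen (plEquiv Polynomial.X : Fn (Pl k))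
  let Uo : Over (Sk k) := Over.mk (U.ι ≫ (Pl k).hom)
  let Xu : Γ(Uo.left, ⊤) := U.ι.appTop (plEquiv Polynomial.X : Fn (Pl k))
  have hXu : IsUnit Xu := by
    have h1 : U.toScheme.basicOpen Xu = ⊤ := by
      rw [← Scheme.preimage_basicOpen_top]
      exact top_le_iff.1 fun z _ => U.range_ι.le ⟨z, rfl⟩
    refine RingedSpace.isUnit_of_isUnit_germ U.toScheme.toRingedSpace ⊤ Xu fun z hz => ?_
    have h2 : z ∈ U.toScheme.basicOpen Xu := by rw [h1]; trivial
    exact (Scheme.mem_basicOpen_top U.toScheme Xu z).1 h2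
  let uU : Uo ⟶ Gm := GmPts.ptOfUnit hXu.unit
  let gU : Uo ⟶ X := lift (uU ≫ l) (toUnit Uo ≫ x) ≫ a.act
  have hdense : Dense (U : Set (Pl k).left) := by
    haveI : IrreducibleSpace (Pl k).left := inferInstanceAs (IrreducibleSpace (PrimeSpectrum (Polynomial k)))
    refine IsOpen.dense U.2 ⟨(plPt (1 : k)).left (IsLocalRing.closedPoint k), ?_⟩
    show _ ∈ (Pl k).left.basicOpen _
    by_contra hmem
    have hz : val (plPt (1 : k)) (plEquiv Polynomial.X) = 0 := by
      by_contra hne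
      refine hmem ?_
      have : ((plPt (1 : k)).left ⁻¹ᵁ (Pl k).left.basicOpen (plEquiv Polynomial.X : Fn (Pl k))) = ⊤ := by
        rw [Scheme.preimage_basicOpen_top]
        refine Scheme.basicOpen_of_isUnit _ ?_
        have h2 : IsUnit (struct (𝟙_ (Over (Sk k))) (val (plPt (1 : k)) (plEquiv Polynomial.X))) :=
          (isUnit_iff_ne_zero.mpr hne).map _
        rwa [show struct (𝟙_ (Over (Sk k))) (val (plPt (1 : k)) (plEquiv Polynomial.X)) =
          (plPt (1 : k)).left.appTop (plEquiv Polynomial.X : Fn (Pl k)) from struct_gamma _] at h2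
      have h3 : IsLocalRing.closedPoint k ∈
          (plPt (1 : k)).left ⁻¹ᵁ (Pl k).left.basicOpen (plEquiv Polynomial.X : Fn (Pl k)) := by
        rw [this]; trivial
      exact h3
    rw [val_plPt] at hz
    simp at hz
  haveI : Algebra.Smooth k (Polynomial k) :=
    (haveI : Algebra.Smooth k (MvPolynomial PUnit.{u + 1} k) := ⟨inferInstance, inferInstance⟩
     Algebra.Smooth.of_equiv (MvPolynomial.pUnitAlgEquiv.{u} k))
  haveI : Smooth (Pl k).hom := by
    show Smooth (Spec.map (CommRingCat.ofHom (algebraMap k (Polynomial k))))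
    rw [HasRingHomProperty.Spec_iff (P := @Smooth)]
    exact RingHom.smooth_algebraMap.mpr inferInstance
  obtain ⟨V, hUV, g₁, hg₁, hres, hcodim⟩ := Groth.Agent.H28Neron.exists_extension_off_codim_two (R := k)
    (Pl k).hom X.hom U hdense gU.left (Over.w gU)
  obtain rfl : V = ⊤ := by
    refine eq_top_iff.mpr fun z _ => ?_
    by_contra hz
    have h1 : ringKrullDim ((Pl k).left.presheaf.stalk z) ≤ 1 := by
      refine (Groth.Agent.H05EGA4.DimFibre.stalkDim_le_top z).trans (le_of_eq ?_)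
      show topologicalKrullDim (PrimeSpectrum (Polynomial k)) = 1
      rw [PrimeSpectrum.topologicalKrullDim_eq_ringKrullDim,
        Polynomial.ringKrullDim_of_isNoetherianRing, ringKrullDim_eq_zero_of_field, zero_add]
    exact absurd (show (2 : ℕ) ≤ 1 by exact_mod_cast (hcodim z hz).trans h1) (by omega)
  let g : Pl k ⟶ X := Over.homMk ((Pl k).left.topIso.inv ≫ g₁) (by
    rw [Category.assoc, hg₁, Scheme.toIso_inv_ι_assoc])
  let ιU : Uo ⟶ Pl k := Over.homMk U.ι rfl
  have hgU : ιU ≫ g = gU := by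
    apply Over.OverMorphism.ext
    show U.ι ≫ (Pl k).left.topIso.inv ≫ g₁ = gU.left
    have e : U.ι ≫ (Pl k).left.topIso.inv = (Pl k).left.homOfLE hUV := by
      rw [← cancel_mono (Scheme.Opens.ι ⊤), Category.assoc, Scheme.homOfLE_ι, Scheme.toIso_inv_ι, Category.comp_id]
    rw [← Category.assoc, e, hres]
  obtain ⟨h, hh⟩ := Fn.exists_hom (X := 𝔸) (Y := Pl k)
    (((Polynomial.aeval (tFn (k := k))) : Polynomial k →ₐ[k] Fn 𝔸).comp plEquiv.symm.toAlgHom)
  have hhX : Fn.pull h (plEquiv Polynomial.X) = tFn := by rw [hh]; simp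
  -- the orbit map factors through the chart
  have hiz : Fn.pull (HMNum.incl (Sk k) ≫ h) (plEquiv Polynomial.X) = ((zFn : (Fn Gm)ˣ) : Fn Gm) := by
    rw [← Fn.pull_pull, hhX, pull_incl_tFn]
  have hrange : Set.range (HMNum.incl (Sk k) ≫ h).left ⊆ Set.range U.ι := by
    rintro _ ⟨z, rfl⟩
    refine U.range_ι.ge ?_
    show z ∈ (HMNum.incl (Sk k) ≫ h).left ⁻¹ᵁ (Pl k).left.basicOpen _
    rw [Scheme.preimage_basicOpen_top,
      show (HMNum.incl (Sk k) ≫ h).left.appTop (plEquiv Polynomial.X : Fn (Pl k)) =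
        ((zFn : (Fn Gm)ˣ) : Fn Gm) from hiz, Scheme.basicOpen_of_isUnit _ zFn.isUnit]
    trivial
  let k0 : Gm ⟶ Uo := Over.homMk (IsOpenImmersion.lift U.ι _ hrange) (by
    show _ ≫ U.ι ≫ (Pl k).hom = _
    rw [IsOpenImmersion.lift_fac_assoc]
    exact Over.w _)
  have hk0 : k0 ≫ ιU = HMNum.incl (Sk k) ≫ h := Over.OverMorphism.ext (IsOpenImmersion.lift_fac _ _ _)
  have hk1 : k0 ≫ uU = 𝟙 Gm := by
    apply GmPts.gmFn_injective
    show Red.gmFn (k0 ≫ uU) = Red.gmFn (𝟙 Gm)
    rw [GmPts.gmFn_comp, GmPts.gmFn_ptOfUnit, IsUnit.unit_spec]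
    show Fn.pull k0 (Fn.pull ιU (plEquiv Polynomial.X)) = _
    rw [Fn.pull_pull, hk0, hiz]
    exact GmPts.val_unitOfPt _
  let φ₀ : 𝔸 ⟶ X := h ≫ g
  have horb : HMNum.incl (Sk k) ≫ φ₀ = lift l (toUnit _ ≫ x) ≫ a.act := by
    rw [← Category.assoc, ← hk0, Category.assoc, hgU]
    show k0 ≫ lift (uU ≫ l) (toUnit Uo ≫ x) ≫ a.act = _
    rw [comp_lift_assoc, ← Category.assoc k0, hk1, Category.id_comp, ← Category.assoc, comp_toUnit]
  have heq : ((snd 𝔸 Gm ≫ HMNum.incl (Sk k)) * fst 𝔸 Gm) ≫ φ₀ =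
      lift (snd 𝔸 Gm ≫ l) (fst 𝔸 Gm ≫ φ₀) ≫ a.act := by
    refine ext_of_incl_whisker ?_
    rw [← Category.assoc, MonObj.comp_mul, whiskerRight_snd_assoc, whiskerRight_fst, comp_lift_assoc,
      whiskerRight_snd_assoc, whiskerRight_fst_assoc, horb, comp_lift_assoc,
      ← MonObj.mul_comp, Category.assoc, horb, comp_lift_assoc, MonObj.mul_comp,
      ← Category.assoc, comp_toUnit, ← Category.assoc (fst _ _), comp_toUnit, mul_act']
  refine ⟨g, ⟨⟨fst 𝔸 (𝟙_ _) ≫ φ₀, (Magnet.MonAct.mem_eqvHom_iff _).2 fun T' u b t => ?_⟩, ?_, ?_⟩, fun u => ?_⟩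
  · simp only [Magnet.MonAct.lift_restrict_act, Magnet.MonAct.ofAction_act, Magnet.subAct,
      Magnet.MonAct.lift_regular_act, lift_fst_assoc]
    have := congrArg (lift b u ≫ ·) heq
    simp only [← Category.assoc, MonObj.comp_mul, comp_lift] at this
    simpa [Category.assoc] using this
  · change lift (toUnit _ ≫ η[𝔸]) (𝟙 _) ≫ fst _ _ ≫ φ₀ = x
    rw [lift_fst_assoc, ← IsMonHom.one_hom (f := HMNum.incl (Sk k)), Category.assoc, Category.assoc, horb,
      ← Category.assoc, comp_lift_assoc, ← Category.assoc _ (toUnit _) x, comp_toUnit,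
      toUnit_unique (toUnit (𝟙_ (Over (Sk k)))) (𝟙 _), Category.id_comp, Category.id_comp,
      IsMonHom.one_hom]
    have : (η[G] : 𝟙_ (Over (Sk k)) ⟶ G) = 1 := by rw [Hom.one_def, toUnit_unit, Category.id_comp]
    rw [this, one_act']
  · rw [HMNum.limitPt_eq]
    change lift (toUnit _ ≫ HMNum.origin _) (𝟙 _) ≫ fst _ _ ≫ φ₀ = plPt 0 ≫ g
    rw [lift_fst_assoc, toUnit_unique (toUnit (𝟙_ (Over (Sk k)))) (𝟙 _), Category.id_comp, ← Category.assoc]
    refine congrArg (· ≫ g) (plPt_unique ?_)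
    rw [← val_pull, hhX]
    show Fn.ev (HMNum.origin (Sk k)) (tFn (k := k)) = 0
    exact (congrArg (Fn.gammaAlg (k := k)) (pull_origin_tFn (k := k))).trans (map_zero _)
  · have h1 : u ≫ HMNum.incl (Sk k) ≫ h = plPt (par u : k) := plPt_unique (by
      rw [← val_pull, hiz]; rfl)
    rw [← h1, Category.assoc, Category.assoc, horb, comp_lift_assoc, ← Category.assoc, comp_toUnit,
      toUnit_unique (toUnit _) (𝟙 _), Category.id_comp]

end H20Mu
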