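import Groth.Agent.H20Mu.Weights
import Groth.Agent.H20Mu.Line

/-!
# The numerical function on the one-parameter subgroups of a torus
-/

set_option autoImplicit false
set_option linter.style.haveILetI false
set_option backward.isDefEq.respectTransparency false

universe u

open CategoryTheory CategoryTheory.Limits MonoidalCategory CartesianMonoidalCategory MonObj AlgebraicGeometry Opposite
open Groth.Agent.H27Witt

noncomputable section

namespace H20Mu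

variable {k : Type u} [Field k]

/-- A point lies in the non-vanishing locus of a function exactly when its value is non-zero. -/
theorem mem_basicOpen_iff {P : Over (Sk k)} (x : 𝟙_ (Over (Sk k)) ⟶ P) (s : Fn P) :
    x.left (IsLocalRing.closedPoint k) ∈ P.left.basicOpen (s : Γ(P.left, ⊤)) ↔ val x s ≠ 0 := by
  constructor
  · intro h h0
    have h1 : x.left.appTop (s : Γ(P.left, ⊤)) = 0 :=
      (struct_gamma _).symm.trans ((congrArg (struct (T0 k)) h0).trans (map_zero _))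
    have h2 : IsLocalRing.closedPoint k ∈ (T0 k).left.basicOpen (x.left.appTop (s : Γ(P.left, ⊤))) :=
      (SetLike.ext_iff.mp (Scheme.preimage_basicOpen_top x.left (s : Γ(P.left, ⊤))) _).mp h
    rw [h1, Scheme.basicOpen_zero] at h2
    exact h2
  · intro h
    refine (SetLike.ext_iff.mp (Scheme.preimage_basicOpen_top x.left (s : Γ(P.left, ⊤))) (IsLocalRing.closedPoint k)).mpr ?_
    have hu : IsUnit (x.left.appTop (s : Γ(P.left, ⊤))) := struct_gamma (x.left.appTop (s : Γ(P.left, ⊤))) ▸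
      (isUnit_iff_ne_zero.mpr h).map (struct (T0 k))
    rw [Scheme.basicOpen_of_isUnit _ hu]
    trivial

/-- A function on a basic open is a fraction. -/
theorem exists_ratio {P : Over (Sk k)} [IsAffine P.left] (p : Fn P)
    (h : Fn (Over.mk ((P.left.basicOpen (p : Γ(P.left, ⊤))).ι ≫ P.hom))) :
    ∃ (N : ℕ) (q : Fn P),
      h * Fn.pull (Y := P) (Over.homMk (P.left.basicOpen (p : Γ(P.left, ⊤))).ι rfl) p ^ N =
        Fn.pull (Y := P) (Over.homMk (P.left.basicOpen (p : Γ(P.left, ⊤))).ι rfl) q :=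
  IsLocalization.Away.surj (R := Γ(P.left, ⊤)) (S := Γ((P.left.basicOpen (p : Γ(P.left, ⊤))).toScheme, ⊤))
    (p : Γ(P.left, ⊤)) h

variable [IsAlgClosed k] {G X : Over (Sk k)} [GrpObj G] {a : AlgGrp.Action G X} (B : GLinSh.LinBun G a)
  {T : Over (Sk k)} [GrpObj T] (i : T ⟶ G) [IsMonHom i]

/-- The indices of eigenfunctions not vanishing identically over a point. -/
def IsSupp {r : ℕ} (F : Fin r → Fn B.V) (x : 𝟙_ (Over (Sk k)) ⟶ X) (j : Fin r) : Prop :=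
  ∃ v : 𝟙_ (Over (Sk k)) ⟶ B.V, v ≫ B.π = x ∧ val v (F j) ≠ 0

/-- At a fixed point the character of a non-vanishing eigenfunction is the weight times its degree. -/
theorem pair_eq_of_fibreWeight {r : ℕ} {deg : Fin r → ℕ} {g : Fin r → Fn T} {F : Fin r → Fn B.V}
    (hg : ∀ j, IsCharFn (g j))
    (hF : ∀ j (t : 𝟙_ (Over (Sk k)) ⟶ T) (v : 𝟙_ (Over (Sk k)) ⟶ B.V),
      val (lift (t ≫ i) v ≫ B.lift.act) (F j) = val t (g j) * val v (F j))
    (hhom : ∀ j, Homog B (deg j) (F j)) (l : Red.Gm (Sk k) ⟶ T) [IsMonHom l] {y : 𝟙_ (Over (Sk k)) ⟶ X} {w : ℤ}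
    (hw : HMNum.HasFibreWeight B (l ≫ i) y w) {j : Fin r} (hj : IsSupp B F y j) :
    pair (g j) l = (deg j : ℤ) * w := by
  obtain ⟨U, z, hz, hyU, hwt⟩ := fibreWeight_val B hw
  obtain ⟨vy, hvy, hne⟩ := hj
  obtain ⟨v₁, hv₁, hv₁z⟩ := exists_normalized B hz y hyU.ge
  have hne₁ : val v₁ (F j) ≠ 0 := fun h0 => hne (by
    rw [hhom j U z hz vy v₁ (by rw [hvy, hyU]) (by rw [hv₁, hyU]) (hv₁.trans hvy.symm) hv₁z, h0, mul_zero])
  refine eq_of_forall_zpow (k := k) fun c => Units.ext ?_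
  have hv' : (lift (ofPar c ≫ l ≫ i) v₁ ≫ B.lift.act) ≫ B.π = y := by
    rw [act_π, hv₁]
    simpa using hw.1 _ (𝟙 _) (ofPar c)
  have hu : val (lift (ofPar c ≫ l ≫ i) v₁ ≫ B.lift.act) (F j) =
      ((c ^ pair (g j) l : kˣ) : k) * val v₁ (F j) := by
    rw [← Category.assoc (ofPar c) l i, hF, val_comp_char l (hg j), par_ofPar]
  have h1 := hhom j U z hz _ v₁ (by rw [hv', hyU]) (by rw [hv₁, hyU]) (hv₁.trans hv'.symm) hv₁z
  rw [hu, hwt (ofPar c) v₁ hv₁ hv', hv₁z, _root_.mul_one, par_ofPar, ← Units.val_pow_eq_pow_val] at h1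
  rw [mul_right_cancel₀ hne₁ h1, ← zpow_natCast, ← zpow_mul, mul_comm w]

/-- **The key inequality**, with the support at the limit: the functions of extreme weight do not vanish there. -/
theorem exists_limit_weight_supp [IsProper X.hom] {r : ℕ} {deg : Fin r → ℕ} {g : Fin r → Fn T} {F : Fin r → Fn B.V}
    (hdeg : ∀ j, 1 ≤ deg j) (hg : ∀ j, IsCharFn (g j))
    (hF : ∀ j (t : 𝟙_ (Over (Sk k)) ⟶ T) (v : 𝟙_ (Over (Sk k)) ⟶ B.V),
      val (lift (t ≫ i) v ≫ B.lift.act) (F j) = val t (g j) * val v (F j))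
    (hhom : ∀ j, Homog B (deg j) (F j)) (hsep : ∀ x, ∃ j, IsSupp B F x j)
    (x : 𝟙_ (Over (Sk k)) ⟶ X) (l : Red.Gm (Sk k) ⟶ T) [IsMonHom l] :
    ∃ (y : 𝟙_ (Over (Sk k)) ⟶ X) (w : ℤ), HMNum.IsLimitPt a (l ≫ i) x y ∧
      HMNum.HasFibreWeight B (l ≫ i) y w ∧
      ∃ j₀, IsSupp B F x j₀ ∧ pair (g j₀) l = (deg j₀ : ℤ) * w ∧
        ∀ j, IsSupp B F x j → (deg j : ℤ) * pair (g j₀) l ≤ (deg j₀ : ℤ) * pair (g j) l ∧
          ((deg j : ℤ) * pair (g j₀) l = (deg j₀ : ℤ) * pair (g j) l → IsSupp B F y j) := by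
  obtain ⟨φ, hlim, horb⟩ := exists_line_extension a (l ≫ i) x
  set y : 𝟙_ (Over (Sk k)) ⟶ X := plPt 0 ≫ φ with hydef
  have hfix := isFixedBy_of_isLimitPt (l ≫ i) x y hlim
  obtain ⟨w, hw⟩ := exists_fibreWeight B (l ≫ i) y hfix
  obtain ⟨U, z, hz, hyU, hwt⟩ := fibreWeight_val B hw
  have hFu : ∀ j (u : 𝟙_ (Over (Sk k)) ⟶ Red.Gm (Sk k)) (v : 𝟙_ (Over (Sk k)) ⟶ B.V),
      val (lift (u ≫ l ≫ i) v ≫ B.lift.act) (F j) = ((par u ^ pair (g j) l : kˣ) : k) * val v (F j) := fun j u v => by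
    rw [← Category.assoc u l i, hF, val_comp_char l (hg j)]
  obtain ⟨j₀, hj₀y⟩ := hsep y
  have hpair := pair_eq_of_fibreWeight B i hg hF hhom l hw hj₀y
  obtain ⟨vy, hvy, hne⟩ := hj₀y
  obtain ⟨v₁, hv₁, hv₁z⟩ := exists_normalized B hz y hyU.ge
  have hne₁ : val v₁ (F j₀) ≠ 0 := fun h0 => hne (by
    rw [hhom j₀ U z hz vy v₁ (by rw [hvy, hyU]) (by rw [hv₁, hyU]) (hv₁.trans hvy.symm) hv₁z, h0, mul_zero])
  -- the curve near the limit
  have hyU' : y.left (IsLocalRing.closedPoint k) ∈ U := hyU.ge (x := IsLocalRing.closedPoint k) trivial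
  obtain ⟨W, hW, hyW, hWU⟩ := exists_isAffineOpen_mem_and_subset hyU'
  obtain ⟨σ, hσ, hσz⟩ := exists_section B hz hW hWU
  haveI : IsAffine (Pl k).left := inferInstanceAs (IsAffine (Spec _))
  obtain ⟨P, hPW, hP0⟩ := (isAffineOpen_top (Pl k).left).exists_basicOpen_le
    (V := φ.left ⁻¹ᵁ W) ⟨(plPt (0 : k)).left (IsLocalRing.closedPoint k), hyW⟩ trivial
  obtain ⟨p, rfl⟩ : ∃ p : Polynomial k, (plEquiv p : Fn (Pl k)) = P :=
    ⟨_, (plEquiv (k := k)).apply_symm_apply P⟩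
  have hp0 : p.eval 0 ≠ 0 := by
    rw [← val_plPt]; exact (mem_basicOpen_iff _ _).mp hP0
  set D := (Pl k).left.basicOpen (plEquiv p : Fn (Pl k))
  let Do : Over (Sk k) := Over.mk (D.ι ≫ (Pl k).hom)
  let ιD : Do ⟶ Pl k := Over.homMk D.ι rfl
  have hr : Set.range (D.ι ≫ φ.left) ⊆ Set.range W.ι := by
    rintro _ ⟨d, rfl⟩
    exact W.range_ι.ge (hPW (D.range_ι.le ⟨d, rfl⟩))
  let φD : Do ⟶ Over.mk (W.ι ≫ X.hom) := Over.homMk (IsOpenImmersion.lift W.ι _ hr) (by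
    show IsOpenImmersion.lift W.ι _ hr ≫ W.ι ≫ X.hom = _
    rw [IsOpenImmersion.lift_fac_assoc, Category.assoc, Over.w φ]
    rfl)
  have hφD : φD ≫ σ ≫ B.π = ιD ≫ φ := by
    rw [hσ]; exact Over.OverMorphism.ext (IsOpenImmersion.lift_fac _ _ _)
  have hdata : ∀ c : k, p.eval c ≠ 0 → ∃ vc : 𝟙_ (Over (Sk k)) ⟶ B.V, vc ≫ B.π = plPt c ≫ φ ∧
      (∃ h, cval B z vc (U := U) h = 1) ∧ ∃ dc : 𝟙_ (Over (Sk k)) ⟶ Do, dc ≫ ιD = plPt c ∧ vc = dc ≫ φD ≫ σ := by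
    intro c hc
    have hrc : Set.range (plPt c).left ⊆ Set.range D.ι := by
      rintro _ ⟨s, rfl⟩
      refine D.range_ι.ge ?_
      rw [Subsingleton.elim (α := PrimeSpectrum k) s (IsLocalRing.closedPoint k)]
      exact (mem_basicOpen_iff _ _).mpr (by rw [val_plPt]; exact hc)
    let dc : 𝟙_ (Over (Sk k)) ⟶ Do := Over.homMk (IsOpenImmersion.lift D.ι _ hrc) (by
      show IsOpenImmersion.lift D.ι _ hrc ≫ D.ι ≫ (Pl k).hom = _
      rw [IsOpenImmersion.lift_fac_assoc]; exact Over.w _)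
    have hdc : dc ≫ ιD = plPt c := Over.OverMorphism.ext (IsOpenImmersion.lift_fac _ _ _)
    have hvc : (dc ≫ φD ≫ σ) ≫ B.π = plPt c ≫ φ := by
      rw [Category.assoc, Category.assoc, hφD, reassoc_of% hdc]
    have hh : ⊤ ≤ ((dc ≫ φD ≫ σ) ≫ B.π).left ⁻¹ᵁ U := fun s _ => by
      show ((dc ≫ φD ≫ σ) ≫ B.π).left s ∈ U
      rw [Category.assoc, Category.assoc, hσ]
      exact hWU (W.range_ι.le ⟨(dc ≫ φD).left s, rfl⟩)
    exact ⟨_, hvc, ⟨hh, (cval_congr B z (Category.assoc dc φD σ).symm _ (by rw [Category.assoc dc φD σ]; exact hh)).trans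
      (hσz (dc ≫ φD) _)⟩, dc, hdc, rfl⟩
  choose vc hvcπ hvcz dc hdc hvc using hdata
  have hq : ∀ j, ∃ (N : ℕ) (q : Polynomial k), ∀ (c : k) (hc : p.eval c ≠ 0),
      val (vc c hc) (F j) * p.eval c ^ N = q.eval c := by
    intro j
    obtain ⟨N, Q, hQ⟩ := exists_ratio (P := Pl k) (plEquiv p) (Fn.pull (φD ≫ σ) (F j))
    refine ⟨N, plEquiv.symm Q, fun c hc => ?_⟩
    have h1 := congrArg (val (dc c hc)) hQ
    rw [map_mul, map_pow, val_pull, val_pull, val_pull] at h1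
    rw [hvc c hc, ← val_plPt c p, ← val_plPt c (plEquiv.symm Q), AlgEquiv.apply_symm_apply, ← hdc c hc]
    exact h1
  choose N q hq using hq
  have hq0 : (q j₀).eval 0 ≠ 0 := by
    rw [← hq j₀ 0 hp0]
    refine mul_ne_zero (fun h0 => hne₁ ?_) (pow_ne_zero _ hp0)
    obtain ⟨h, hz1⟩ := hvcz 0 hp0
    rw [hhom j₀ U z hz v₁ (vc 0 hp0) (by rw [hv₁, hyU]) h ((hvcπ 0 hp0).trans hv₁.symm) hz1, h0, mul_zero]
  obtain ⟨c₁, hc₁⟩ : ∃ c, (Polynomial.X * p * q j₀).eval c ≠ 0 := by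
    by_contra hcon
    push Not at hcon
    refine mul_ne_zero (mul_ne_zero Polynomial.X_ne_zero ?_) ?_
      (Polynomial.eq_zero_of_infinite_isRoot _ (Set.infinite_univ.mono fun c _ => hcon c))
    · rintro rfl; simp at hp0
    · intro h; simp [h] at hq0
  simp only [Polynomial.eval_mul, Polynomial.eval_X, mul_ne_zero_iff] at hc₁
  obtain ⟨⟨hc₁0, hc₁p⟩, hc₁q⟩ := hc₁
  set u₁ := ofPar (Units.mk0 c₁ hc₁0) with hu₁
  have horb' : ∀ c : kˣ, plPt (c : k) ≫ φ = lift (ofPar c ≫ l ≫ i) x ≫ a.act := fun c => by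
    rw [← horb (ofPar c), par_ofPar]
  set vx := lift (u₁ ≫ l ≫ i)⁻¹ (vc c₁ hc₁p) ≫ B.lift.act with hvx
  have hvxπ : vx ≫ B.π = x := by
    rw [hvx, act_π, hvcπ c₁ hc₁p, show plPt c₁ ≫ φ = _ from horb' (Units.mk0 c₁ hc₁0), inv_act_act]
  set A : Fin r → k := fun j => val vx (F j)
  have hA₀ : A j₀ ≠ 0 := by
    intro h0
    have h1 : val (lift (u₁ ≫ l ≫ i) vx ≫ B.lift.act) (F j₀) = 0 := by rw [hFu]; simp [A] at h0; simp [h0]
    rw [hvx, ← mul_act', mul_inv_cancel, one_act'] at h1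
    have h2 := hq j₀ c₁ hc₁p
    rw [h1, zero_mul] at h2
    exact hc₁q h2.symm
  have hrel : ∀ c : kˣ, p.eval (c : k) ≠ 0 → ∃ ζ : k, ∀ j,
      ((c ^ pair (g j) l : kˣ) : k) * A j * p.eval (c : k) ^ N j = ζ ^ deg j * (q j).eval (c : k) := by
    intro c hc
    obtain ⟨h, hz1⟩ := hvcz c hc
    have hπ : vc (c : k) hc ≫ B.π = (lift (ofPar c ≫ l ≫ i) vx ≫ B.lift.act) ≫ B.π := by
      rw [hvcπ _ hc, horb', act_π, hvxπ]
    refine ⟨cval B z (lift (ofPar c ≫ l ≫ i) vx ≫ B.lift.act) (by rw [← hπ]; exact h), fun j => ?_⟩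
    rw [← hq j c hc, ← _root_.mul_assoc, ← hhom j U z hz _ (vc (c : k) hc) _ h hπ hz1, hFu, par_ofPar]
  refine ⟨y, w, hlim, hw, j₀, ⟨vx, hvxπ, hA₀⟩, hpair, fun j hj => ?_⟩
  have hAj : A j ≠ 0 := by
    obtain ⟨v, hv, hvne⟩ := hj
    obtain ⟨U', z', hz', hxU⟩ := exists_chart' B x
    obtain ⟨v', hv', hv'1⟩ := exists_normalized B hz' x hxU.ge
    have e : ∀ j' (v'' : 𝟙_ (Over (Sk k)) ⟶ B.V) (hv'' : v'' ≫ B.π = x),
        val v'' (F j') = cval B z' v'' (by rw [hv'', hxU]) ^ deg j' * val v' (F j') := fun j' v'' hv'' =>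
      hhom j' U' z' hz' v'' v' _ (by rw [hv', hxU]) (hv'.trans hv''.symm) hv'1
    have h1 : val v' (F j) ≠ 0 := fun h0 => hvne (by rw [e j v hv, h0, mul_zero])
    have h2 : cval B z' vx (by rw [hvxπ, hxU]) ≠ 0 := fun h0 => hA₀ (by
      show val vx (F j₀) = 0
      rw [e j₀ vx hvxπ, h0, zero_pow (by have := hdeg j₀; omega), zero_mul])
    show val vx (F j) ≠ 0
    rw [e j vx hvxπ]
    exact mul_ne_zero (pow_ne_zero _ h2) h1
  suffices key : ∀ d : ℕ, (d : ℤ) = deg j * pair (g j₀) l - deg j₀ * pair (g j) l → d = 0 ∧ (q j).eval 0 ≠ 0 by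
    refine ⟨?_, fun heq => ⟨vc 0 hp0, hvcπ 0 hp0, fun h0 => ?_⟩⟩
    · by_contra hlt
      push Not at hlt
      obtain ⟨d, hd, hd'⟩ : ∃ d : ℕ, 0 < d ∧ (d : ℤ) = deg j * pair (g j₀) l - deg j₀ * pair (g j) l :=
        ⟨((deg j : ℤ) * pair (g j₀) l - deg j₀ * pair (g j) l).toNat, by omega, by omega⟩
      exact hd.ne' (key d hd').1
    · refine (key 0 (by rw [heq]; simp)).2 ?_
      rw [← hq j 0 hp0, h0, zero_mul]
  intro d hd'
  let R : Polynomial k :=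
    Polynomial.C (A j ^ deg j₀) * p ^ (N j * deg j₀) * q j₀ ^ deg j -
      Polynomial.C (A j₀ ^ deg j) * Polynomial.X ^ d * p ^ (N j₀ * deg j) * q j ^ deg j₀
  have hR : R = 0 := by
    refine Polynomial.eq_zero_of_infinite_isRoot _ (Set.Infinite.mono ?_
      (((p.rootSet_finite k).union (Set.finite_singleton 0)).infinite_compl))
    intro c hc
    simp only [Set.mem_compl_iff, Set.mem_union, Set.mem_singleton_iff, not_or] at hc
    have hcp : p.eval c ≠ 0 := fun h => hc.1 (by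
      rw [Polynomial.mem_rootSet]; exact ⟨fun h' => hp0 (by simp [h']), by simpa using h⟩)
    let cu : kˣ := Units.mk0 c hc.2
    obtain ⟨ζ, hζ⟩ := hrel cu hcp
    have hu : (cu ^ pair (g j₀) l) ^ deg j = (cu ^ pair (g j) l) ^ deg j₀ * cu ^ d := by
      rw [← zpow_natCast, ← zpow_natCast, ← zpow_natCast, ← zpow_mul, ← zpow_mul, ← zpow_add, hd']
      congr 1; ring
    have hu' := congrArg (Units.val : kˣ → k) hu
    rw [Units.val_mul, Units.val_pow_eq_pow_val, Units.val_pow_eq_pow_val, Units.val_pow_eq_pow_val] at hu'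
    have h0 := congrArg (· ^ deg j) (hζ j₀)
    have hj' := congrArg (· ^ deg j₀) (hζ j)
    set e := (((cu ^ pair (g j) l : kˣ)) : k)
    set e₀ := (((cu ^ pair (g j₀) l : kˣ)) : k)
    simp only [mul_pow, ← pow_mul] at h0 hj'
    rw [hu'] at h0
    have he : e ^ deg j₀ ≠ 0 := pow_ne_zero _ (Units.ne_zero _)
    show R.eval c = 0
    simp only [R, Polynomial.eval_sub, Polynomial.eval_mul, Polynomial.eval_pow, Polynomial.eval_C,
      Polynomial.eval_X]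
    refine mul_left_cancel₀ he ?_
    rw [show ((cu : kˣ) : k) = c from rfl] at h0 hj'
    rw [mul_zero, mul_sub, mul_comm (deg j₀) (deg j)] at *
    linear_combination (q j₀).eval c ^ deg j * hj' - (q j).eval c ^ deg j₀ * h0
  have h1 := congrArg (Polynomial.eval 0) hR
  rcases Nat.eq_zero_or_pos d with rfl | hd
  · refine ⟨rfl, fun h0 => ?_⟩
    simp [R, h0, zero_pow (show deg j₀ ≠ 0 by have := hdeg j₀; omega), hAj, hp0, hq0] at h1
  · simp [R, zero_pow hd.ne', hAj, hp0, hq0] at h1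

/-- **The key inequality**: the weight at the limit is the extreme weight in the support. -/
theorem exists_limit_weight [IsProper X.hom] {r : ℕ} {deg : Fin r → ℕ} {g : Fin r → Fn T} {F : Fin r → Fn B.V}
    (hdeg : ∀ j, 1 ≤ deg j) (hg : ∀ j, IsCharFn (g j))
    (hF : ∀ j (t : 𝟙_ (Over (Sk k)) ⟶ T) (v : 𝟙_ (Over (Sk k)) ⟶ B.V),
      val (lift (t ≫ i) v ≫ B.lift.act) (F j) = val t (g j) * val v (F j))
    (hhom : ∀ j, Homog B (deg j) (F j)) (hsep : ∀ x, ∃ j, IsSupp B F x j)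
    (x : 𝟙_ (Over (Sk k)) ⟶ X) (l : Red.Gm (Sk k) ⟶ T) [IsMonHom l] :
    ∃ (y : 𝟙_ (Over (Sk k)) ⟶ X) (w : ℤ), HMNum.IsLimitPt a (l ≫ i) x y ∧
      HMNum.HasFibreWeight B (l ≫ i) y w ∧
      ∃ j₀, IsSupp B F x j₀ ∧ pair (g j₀) l = (deg j₀ : ℤ) * w ∧
        ∀ j, IsSupp B F x j → (deg j : ℤ) * pair (g j₀) l ≤ (deg j₀ : ℤ) * pair (g j) l := by
  obtain ⟨y, w, hlim, hw, j₀, hj₀, hpair, h⟩ := exists_limit_weight_supp B i hdeg hg hF hhom hsep x l
  exact ⟨y, w, hlim, hw, j₀, hj₀, hpair, fun j hj => (h j hj).1⟩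

/-- **The numerical function on a torus is a maximum of finitely many functionals.** -/
theorem exists_functionals [IsProper X.hom] (hT : Red.IsTorus T) (hB : HMNum.AmpleCover B) :
    ∃ (n : ℕ) (ℓ : Fin n → (Red.Gm (Sk k) ⟶ T) → ℚ),
      (∀ (j : Fin n) (l₁ l₂ : Red.Gm (Sk k) ⟶ T) [IsMonHom l₁] [IsMonHom l₂],
          ℓ j (l₁ * l₂) = ℓ j l₁ + ℓ j l₂) ∧
      ∀ x : 𝟙_ (Over (Sk k)) ⟶ X, ∃ I : Finset (Fin n), ∀ (l : Red.Gm (Sk k) ⟶ T) [IsMonHom l],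
        ∃ w : ℤ, (∀ m, HMNum.IsMu B (l ≫ i) x m ↔ m = w) ∧
          ∃ j ∈ I, (w : ℚ) = ℓ j l ∧ ∀ j' ∈ I, ℓ j' l ≤ ℓ j l := by
  classical
  obtain ⟨r, deg, g, F, hdeg, hg, hF, hhom, hsep⟩ := exists_family B i hT hB
  refine ⟨r, fun j l => -((pair (g j) l : ℚ) / (deg j : ℚ)), fun j l₁ l₂ _ _ => ?_, fun x => ?_⟩
  · show -((pair (g j) (l₁ * l₂) : ℚ) / (deg j : ℚ)) = _
    rw [pair_mul (hg j), Int.cast_add]
    ring
  refine ⟨Finset.univ.filter (IsSupp B F x), fun l _ => ?_⟩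
  obtain ⟨y, w, hlim, hw, j₀, hj₀, hpair, hmax⟩ := exists_limit_weight B i hdeg hg hF hhom hsep x l
  have hpos : ∀ j, (0 : ℚ) < deg j := fun j => by exact_mod_cast hdeg j
  refine ⟨-w, fun m => ⟨?_, ?_⟩, j₀, Finset.mem_filter.mpr ⟨Finset.mem_univ _, hj₀⟩, ?_, fun j hj => ?_⟩
  · rintro ⟨y', hlim', hw'⟩
    obtain rfl := isLimitPt_unique (l ≫ i) x y y' hlim hlim'
    obtain ⟨jy, hjy⟩ := hsep y
    have h := (pair_eq_of_fibreWeight B i hg hF hhom l hw hjy).symm.trans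
      (pair_eq_of_fibreWeight B i hg hF hhom l hw' hjy)
    have := mul_left_cancel₀ (by have := hdeg jy; omega) h
    omega
  · rintro rfl
    exact ⟨y, hlim, by rwa [neg_neg]⟩
  · show ((-w : ℤ) : ℚ) = -((pair (g j₀) l : ℚ) / (deg j₀ : ℚ))
    rw [hpair]
    push_cast
    rw [mul_div_cancel_left₀ _ (hpos j₀).ne']
  · show -((pair (g j) l : ℚ) / (deg j : ℚ)) ≤ -((pair (g j₀) l : ℚ) / (deg j₀ : ℚ))
    rw [neg_le_neg_iff, div_le_div_iff₀ (hpos j₀) (hpos j)]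
    have := hmax j (Finset.mem_filter.mp hj).2
    have h' : ((deg j : ℤ) * pair (g j₀) l : ℚ) ≤ ((deg j₀ : ℤ) * pair (g j) l : ℚ) := by exact_mod_cast this
    push_cast at h'
    linarith

end H20Mu
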