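import Groth.Agent.H20Mu.Values
import Groth.Agent.H02CA.Tori.Split
import Groth.Agent.H21Diag.TorusQuot

/-!
# Functions on a torus over an algebraically closed field
-/

set_option autoImplicit false
set_option linter.style.haveILetI false
set_option backward.isDefEq.respectTransparency false

universe u

open CategoryTheory CategoryTheory.Limits MonoidalCategory CartesianMonoidalCategory MonObj AlgebraicGeometry TensorProduct
open Groth.Agent.H27Witt

noncomputable section

namespace H20Mu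

variable {k : Type u} [Field k]

/-- Multiplicative functions. -/
def IsCharFn {T : Over (Sk k)} [GrpObj T] (g : Fn T) : Prop :=
  val (1 : 𝟙_ (Over (Sk k)) ⟶ T) g = 1 ∧ ∀ s t, val (s * t) g = val s g * val t g

theorem groupLike_mul {A : Type u} [CommRing A] [HopfAlgebra k A] {s : A} (hs : IsGroupLikeElem k s)
    {P : Over (Sk k)} (a b : P ⟶ (Spec (CommRingCat.of A)).asOver (Spec (CommRingCat.of k))) :
    Fn.pull (a * b) (Fn.specAlg (k := k) A s) =
      Fn.pull a (Fn.specAlg (k := k) A s) * Fn.pull b (Fn.specAlg (k := k) A s) := by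
  let D : Over (Sk k) := (Spec (CommRingCat.of A)).asOver (Spec (CommRingCat.of k))
  let w : (D ⊗ D).left ⟶ Spec (CommRingCat.of (A ⊗[k] A)) := (pullbackSpecIso k A A).hom
  let L : A ⊗[k] A →+* Γ((D ⊗ D).left, ⊤) :=
    w.appTop.hom.comp (Scheme.ΓSpecIso (CommRingCat.of (A ⊗[k] A))).inv.hom
  have key : ∀ (f : A →+* A ⊗[k] A) (g : (D ⊗ D).left ⟶ Spec (CommRingCat.of A)),
      g = w ≫ Spec.map (CommRingCat.ofHom f) →
        g.appTop ((Scheme.ΓSpecIso (CommRingCat.of A)).inv s) = L (f s) := by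
    rintro f g rfl
    rw [Scheme.Hom.comp_appTop]
    exact congrArg w.appTop congr($(Scheme.ΓSpecIso_inv_naturality (CommRingCat.ofHom f)).hom s).symm
  have hl : (Fn.pull (fst D D) (Fn.specAlg (k := k) A s) : Γ((D ⊗ D).left, ⊤)) = L (s ⊗ₜ 1) :=
    key (Algebra.TensorProduct.includeLeftRingHom : A →+* A ⊗[k] A) (fst D D).left (pullbackSpecIso_hom_fst k A A).symm
  have hr : (Fn.pull (snd D D) (Fn.specAlg (k := k) A s) : Γ((D ⊗ D).left, ⊤)) = L (1 ⊗ₜ s) :=
    key (Algebra.TensorProduct.includeRight : A →ₐ[k] A ⊗[k] A).toRingHom (snd D D).left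
      (pullbackSpecIso_hom_snd k A A).symm
  have hm : (Fn.pull μ[D] (Fn.specAlg (k := k) A s) : Γ((D ⊗ D).left, ⊤)) = L (s ⊗ₜ s) := by
    refine (key (Bialgebra.comulAlgHom k A : A →+* A ⊗[k] A) (μ[D]).left mul_spec_asOver_spec_left).trans ?_
    exact congrArg L hs.comul_eq_tmul_self
  have hμ : Fn.pull μ[D] (Fn.specAlg (k := k) A s) =
      Fn.pull (fst D D) (Fn.specAlg (k := k) A s) * Fn.pull (snd D D) (Fn.specAlg (k := k) A s) :=
    hm.trans ((congrArg L (by rw [Algebra.TensorProduct.tmul_mul_tmul, _root_.mul_one, _root_.one_mul])).trans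
      ((map_mul L _ _).trans (congrArg₂ (· * ·) hl.symm hr.symm)))
  rw [Hom.mul_def, Fn.pull_comp, AlgHom.comp_apply, hμ, map_mul, Fn.pull_pull, Fn.pull_pull, lift_fst, lift_snd]

theorem groupLike_char {A : Type u} [CommRing A] [HopfAlgebra k A] {s : A} (hs : IsGroupLikeElem k s)
    {T : Over (Sk k)} [GrpObj T] (e : T ⟶ (Spec (CommRingCat.of A)).asOver (Spec (CommRingCat.of k))) [IsMonHom e] :
    IsCharFn (Fn.pull e (Fn.specAlg (k := k) A s)) := by
  have hmul : ∀ a b : 𝟙_ (Over (Sk k)) ⟶ T, val (a * b) (Fn.pull e (Fn.specAlg (k := k) A s)) =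
      val a (Fn.pull e (Fn.specAlg (k := k) A s)) * val b (Fn.pull e (Fn.specAlg (k := k) A s)) := fun a b => by
    rw [val_pull, val_pull, val_pull, MonObj.mul_comp]
    exact (congrArg (Fn.gammaAlg (k := k)) (groupLike_mul hs _ _)).trans (map_mul _ _ _)
  refine ⟨?_, hmul⟩
  have hu : IsUnit (val (1 : 𝟙_ (Over (Sk k)) ⟶ T) (Fn.pull e (Fn.specAlg (k := k) A s))) :=
    (((IsGroupLikeElem.isUnit (R := k) hs).map (Fn.specAlg (k := k) A)).map (Fn.pull e)).map _
  have h := hmul 1 1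
  rw [_root_.one_mul] at h
  exact hu.mul_left_cancel (h.symm.trans (_root_.mul_one _).symm)

/-- A torus over an algebraically closed field is affine and its functions are combinations of characters. -/
theorem exists_span_char [IsAlgClosed k] (T : Over (Sk k)) [GrpObj T] (hT : Red.IsTorus T) :
    IsAffine T.left ∧ ∀ f : Fn T, ∃ (n : ℕ) (c : Fin n → k) (g : Fin n → Fn T),
      (∀ i, IsCharFn (g i)) ∧ f = ∑ i, c i • g i := by
  obtain ⟨S', f', -, hsurj, -, hsplit⟩ := hT
  obtain ⟨s', -⟩ := f'.surjective (IsLocalRing.closedPoint k)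
  obtain ⟨U, hsU, r, hr⟩ := hsplit s'
  let L : Type u := S'.residueField s'
  obtain ⟨φ, hφ⟩ := Spec.map_surjective (S'.fromSpecResidueField s' ≫ f')
  letI : Algebra k L := φ.hom.toAlgebra
  have hrange : Set.range (S'.fromSpecResidueField s') ⊆ Set.range U.ι := by
    rintro _ ⟨p, rfl⟩
    rw [Scheme.Opens.range_ι, Scheme.fromSpecResidueField_apply]
    exact hsU
  have hL : Red.IsSplitTorusWith (Fin r → ℤ) (Red.bc (Spec.map (CommRingCat.ofHom (algebraMap k L))) T) :=
    Groth.Agent.H21Diag.isSplit_comp (U.ι ≫ f') (IsOpenImmersion.lift U.ι _ hrange)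
      (by rw [IsOpenImmersion.lift_fac_assoc]; exact hφ) hr
  obtain ⟨A, _, _, e, he, ⟨P⟩⟩ := Groth.Agent.H02CA.Tori.exists_galSplit T ⟨L, inferInstance, inferInstance, hL⟩
  haveI := he
  haveI : IsAffine ((Spec (CommRingCat.of A)).asOver (Spec (CommRingCat.of k))).left :=
    inferInstanceAs (IsAffine (Spec _))
  haveI : IsIso e.inv.left := inferInstanceAs (IsIso ((Over.forget _).map e.inv))
  refine ⟨IsAffine.of_isIso e.inv.left, fun f => ?_⟩
  -- descend the chart along the bijection `k = L`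
  have hbij : Function.Bijective (algebraMap k P.L) :=
    IsAlgClosed.algebraMap_bijective_of_isIntegral
  let j := (RingEquiv.ofBijective (algebraMap k P.L) hbij).symm.toRingHom
  letI : Algebra P.L k := j.toAlgebra
  haveI : IsScalarTower k P.L k := IsScalarTower.of_algebraMap_eq' (RingHom.ext fun c => by
    show c = (RingEquiv.ofBijective (algebraMap k P.L) hbij).symm (algebraMap k P.L c)
    exact ((RingEquiv.ofBijective (algebraMap k P.L) hbij).symm_apply_apply c).symm)
  let M : Type u := ULift.{u} (Multiplicative (Fin r → ℤ))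
  obtain ⟨E⟩ := Groth.Agent.H19Mult.isDiag_baseChange
    (P.chart.trans (MonoidAlgebra.domCongrBialgEquiv P.L P.L MulEquiv.ulift.symm) :
      (P.L ⊗[k] A) ≃ₐc[P.L] MonoidAlgebra P.L M) k
  let E' : A ≃ₐc[k] MonoidAlgebra k M := (Bialgebra.TensorProduct.lid k A).symm.trans E
  let z : MonoidAlgebra k M := E' ((Fn.specAlg (k := k) A).symm (Fn.pull e.hom f))
  let ν := z.coeff.support.equivFin.symm
  refine ⟨_, fun i => z.coeff (ν i).1,
    fun i => Fn.pull e.inv (Fn.specAlg (k := k) A (E'.symm (MonoidAlgebra.single (ν i).1 1))),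
    fun i => groupLike_char ?_ e.inv, ?_⟩
  · exact IsGroupLikeElem.map (E'.symm : MonoidAlgebra k M →ₐc[k] A) (MonoidAlgebra.isGroupLikeElem_of (R := k) (A := k) _)
  · have hz : z = ∑ i, z.coeff (ν i).1 • MonoidAlgebra.single (ν i).1 (1 : k) := by
      rw [Equiv.sum_comp ν (fun m : z.coeff.support => z.coeff m.1 • MonoidAlgebra.single m.1 (1 : k)),
        Finset.sum_coe_sort z.coeff.support fun m => z.coeff m • MonoidAlgebra.single m (1 : k)]
      conv_lhs => rw [← MonoidAlgebra.sum_single z]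
      simp [Finsupp.sum]
    have hf : f = Fn.pull e.inv (Fn.specAlg (k := k) A (E'.symm z)) := by
      simp only [z, BialgEquiv.symm_apply_apply, AlgEquiv.apply_symm_apply, Fn.pull_pull, e.inv_hom_id, Fn.pull_id]
      rfl
    conv_lhs => rw [hf, hz]
    simp only [map_sum, map_smul]

/-- The character as a homomorphism of rational points. -/
def charHom {T : Over (Sk k)} [GrpObj T] (g : Fn T) (hg : IsCharFn g) : (𝟙_ (Over (Sk k)) ⟶ T) →* k where
  toFun t := val t g
  map_one' := hg.1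
  map_mul' := hg.2

variable [IsAlgClosed k] {T : Over (Sk k)} [GrpObj T]

theorem exists_pair (l : Red.Gm (Sk k) ⟶ T) [IsMonHom l] {g : Fn T} (hg : IsCharFn g) :
    ∃ w : ℤ, ∀ u : 𝟙_ (Over (Sk k)) ⟶ Red.Gm (Sk k), val (u ≫ l) g = ((par u ^ w : kˣ) : k) := by
  obtain ⟨w, hw⟩ := exists_eq_zpow (Fn.pull l g) (by rw [val_pull, MonObj.one_comp, hg.1])
    (fun u u' => by rw [val_pull, val_pull, val_pull, MonObj.mul_comp, hg.2])
  exact ⟨w, fun u => by rw [← val_pull, hw, val_zFn_zpow]⟩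

open scoped Classical in
/-- The exponent of a character along a one-parameter subgroup. -/
def pair (g : Fn T) (l : Red.Gm (Sk k) ⟶ T) : ℤ :=
  if h : ∃ w : ℤ, ∀ u : 𝟙_ (Over (Sk k)) ⟶ Red.Gm (Sk k), val (u ≫ l) g = ((par u ^ w : kˣ) : k) then h.choose else 0

theorem val_comp_char (l : Red.Gm (Sk k) ⟶ T) [IsMonHom l] {g : Fn T} (hg : IsCharFn g)
    (u : 𝟙_ (Over (Sk k)) ⟶ Red.Gm (Sk k)) : val (u ≫ l) g = ((par u ^ pair g l : kˣ) : k) := by
  have h := exists_pair l hg
  rw [pair, dif_pos h]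
  exact h.choose_spec u

theorem pair_mul {g : Fn T} (hg : IsCharFn g) (l₁ l₂ : Red.Gm (Sk k) ⟶ T) [IsMonHom l₁] [IsMonHom l₂] :
    pair g (l₁ * l₂) = pair g l₁ + pair g l₂ := by
  have key : ∀ u : 𝟙_ (Over (Sk k)) ⟶ Red.Gm (Sk k),
      val (u ≫ (l₁ * l₂)) g = ((par u ^ (pair g l₁ + pair g l₂) : kˣ) : k) := fun u => by
    rw [MonObj.comp_mul, hg.2, val_comp_char l₁ hg, val_comp_char l₂ hg, zpow_add, Units.val_mul]
  have h : ∃ w : ℤ, ∀ u : 𝟙_ (Over (Sk k)) ⟶ Red.Gm (Sk k),
      val (u ≫ (l₁ * l₂)) g = ((par u ^ w : kˣ) : k) := ⟨_, key⟩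
  rw [pair, dif_pos h]
  refine eq_of_forall_zpow (k := k) fun c => Units.ext ?_
  have h1 := (h.choose_spec (ofPar c)).symm.trans (key (ofPar c))
  rwa [par_ofPar] at h1

end H20Mu
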