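import Groth.Agent.H20Mu.Fibre
import Groth.Agent.H20Mu.TorusFn
import Groth.Agent.H20Mu.ProdFn

/-!
# Fibre weights and torus eigenfunctions on a linearised line bundle
-/

set_option autoImplicit false
set_option linter.style.haveILetI false
set_option backward.isDefEq.respectTransparency false

universe u

open CategoryTheory CategoryTheory.Limits MonoidalCategory CartesianMonoidalCategory MonObj AlgebraicGeometry Opposite
open Groth.Agent.H27Witt

noncomputable section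

namespace H20Mu

variable {k : Type u} [Field k] {G X : Over (Sk k)} [GrpObj G] {a : AlgGrp.Action G X} (B : GLinSh.LinBun G a)

theorem act_π {P : Over (Sk k)} (g : P ⟶ G) (v : P ⟶ B.V) :
    (lift g v ≫ B.lift.act) ≫ B.π = lift g (v ≫ B.π) ≫ a.act := by
  rw [Category.assoc, B.lift_π, lift_whiskerLeft_assoc]

/-- Every rational point lies in a chart. -/
theorem exists_chart' (x : 𝟙_ (Over (Sk k)) ⟶ X) :
    ∃ (U : X.left.Opens) (y : Γ(B.V.left, B.π.left ⁻¹ᵁ U)), y ∈ B.atlas.chart U ∧ x.left ⁻¹ᵁ U = ⊤ := by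
  haveI : Subsingleton (Sk k) := inferInstanceAs (Subsingleton (PrimeSpectrum k))
  haveI : Nonempty (Sk k) := inferInstanceAs (Nonempty (PrimeSpectrum k))
  exact exists_chart B x

/-- **Existence of the fibre weight** at a fixed point. -/
theorem exists_fibreWeight [Infinite k] (l : Red.Gm (Sk k) ⟶ G) [IsMonHom l] (y : 𝟙_ (Over (Sk k)) ⟶ X)
    (hy : HMNum.IsFixedBy a l y) : ∃ w : ℤ, HMNum.HasFibreWeight B l y w := by
  obtain ⟨U, z, hz, hyU⟩ := exists_chart' B y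
  have hfix1 : lift l (toUnit (Red.Gm (Sk k)) ≫ y) ≫ a.act = toUnit _ ≫ y := by
    simpa using hy (Red.Gm (Sk k)) (toUnit _) (𝟙 _)
  have hfix : ∀ u : 𝟙_ (Over (Sk k)) ⟶ Red.Gm (Sk k), lift (u ≫ l) y ≫ a.act = y := fun u => by
    simpa using hy _ (𝟙 _) u
  have hU' : (toUnit (Red.Gm (Sk k)) ≫ y).left ⁻¹ᵁ U = ⊤ := by
    show (toUnit (Red.Gm (Sk k))).left ⁻¹ᵁ (y.left ⁻¹ᵁ U) = ⊤
    rw [hyU]; rfl
  obtain ⟨c, hc⟩ := exists_scalar B hz hz l _ _ hfix1 hU' hU'
  have htu : ∀ {T' : Over (Sk k)} (t : T' ⟶ 𝟙_ _) (g : T' ⟶ Red.Gm (Sk k)),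
      t ≫ y = g ≫ toUnit _ ≫ y := fun t g => by
    rw [← Category.assoc, comp_toUnit, toUnit_unique t]
  have key : ∀ (u : 𝟙_ (Over (Sk k)) ⟶ Red.Gm (Sk k)) (v : 𝟙_ (Over (Sk k)) ⟶ B.V) (hv : v ≫ B.π = y),
      cval B z (lift (u ≫ l) v ≫ B.lift.act) (by rw [act_π, hv, hfix, hyU]) =
        val u (c : Fn (Red.Gm (Sk k))) * cval B z v (by rw [hv, hyU]) := fun u v hv => by
    have h := congrArg (gamma k) (hc _ u v (hv.trans ((Category.id_comp y).symm.trans (htu (𝟙 _) u)))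
      ((act_π B (u ≫ l) v).trans (by rw [hv, hfix]; exact (Category.id_comp y).symm.trans (htu (𝟙 _) u))))
    rw [map_mul] at h
    exact h
  obtain ⟨v₀, hv₀, hv₀z⟩ := exists_normalized B hz y hyU.ge
  have hval : ∀ u, val u (c : Fn (Red.Gm (Sk k))) =
      cval B z (lift (u ≫ l) v₀ ≫ B.lift.act) (by rw [act_π, hv₀, hfix, hyU]) := fun u => by
    rw [key u v₀ hv₀, hv₀z, _root_.mul_one]
  have hc1 : val 1 (c : Fn (Red.Gm (Sk k))) = 1 := by
    rw [hval]
    refine Eq.trans ?_ hv₀z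
    exact cval_congr B z (by rw [MonObj.one_comp, one_act']) _ _
  have hmul : ∀ u u', val (u * u') (c : Fn (Red.Gm (Sk k))) = val u c * val u' c := fun u u' => by
    rw [hval (u * u'), hval u', ← key u _ (by rw [act_π, hv₀, hfix])]
    exact cval_congr B z (by rw [MonObj.mul_comp, mul_act']) _ _
  obtain ⟨w, hcw⟩ := exists_eq_zpow (k := k) (c : Fn (Red.Gm (Sk k))) hc1 hmul
  refine ⟨w, hy, U, z, hz, hyU, fun T' t g v hv hgv => ?_⟩
  refine (hc T' g v (hv.trans (htu t g)) (hgv.trans (htu t g))).trans (congrArg (· * _) ?_)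
  show Fn.pull g (c : Fn (Red.Gm (Sk k))) = _
  rw [hcw, ← pull_zFn g]
  exact congrArg Units.val (map_zpow (Units.map ((Fn.pull g : Fn (Red.Gm (Sk k)) →ₐ[k] Fn T') : Fn (Red.Gm (Sk k)) →* Fn T')) zFn w)

/-- The fibre weight on rational points. -/
theorem fibreWeight_val {l : Red.Gm (Sk k) ⟶ G} {y : 𝟙_ (Over (Sk k)) ⟶ X} {w : ℤ}
    (h : HMNum.HasFibreWeight B l y w) :
    ∃ (U : X.left.Opens) (z : Γ(B.V.left, B.π.left ⁻¹ᵁ U)), z ∈ B.atlas.chart U ∧ ∃ hU : y.left ⁻¹ᵁ U = ⊤,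
      ∀ (u : 𝟙_ (Over (Sk k)) ⟶ Red.Gm (Sk k)) (v : 𝟙_ (Over (Sk k)) ⟶ B.V) (hv : v ≫ B.π = y)
        (hv' : (lift (u ≫ l) v ≫ B.lift.act) ≫ B.π = y),
        cval B z (lift (u ≫ l) v ≫ B.lift.act) (by rw [hv', hU]) =
          ((par u ^ w : kˣ) : k) * cval B z v (by rw [hv, hU]) := by
  obtain ⟨-, U, z, hz, hU, hwt⟩ := h
  refine ⟨U, z, hz, hU, fun u v hv hv' => ?_⟩
  have h := congrArg (gamma k) (hwt _ (𝟙 _) u v (by rw [hv, Category.id_comp])
    (by rw [Category.id_comp]; exact hv'))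
  rw [map_mul] at h
  refine h.trans (congrArg (· * _) ?_)
  rw [← pull_zFn u]
  exact (congrArg (gamma k) (congrArg Units.val
    (map_zpow (Units.map ((Fn.pull u : Fn (Red.Gm (Sk k)) →ₐ[k] Fn (T0 k)) : Fn (Red.Gm (Sk k)) →* Fn (T0 k))) zFn w)).symm).trans
    (val_zFn_zpow u w)

/-- A function of weight `n` is non-zero at some point over each point of its non-vanishing locus. -/
theorem exists_val_ne_zero {n : ℕ} {f : Fn B.V} (hf : GLinSh.HasWeight B.atlas.chart n f)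
    (x : 𝟙_ (Over (Sk k)) ⟶ X) (hx : x.left (IsLocalRing.closedPoint k) ∈ GLinSh.nonvanishing B.π f) :
    ∃ v : 𝟙_ (Over (Sk k)) ⟶ B.V, v ≫ B.π = x ∧ val v f ≠ 0 := by
  obtain ⟨p, hp, hpx⟩ := hx
  obtain ⟨U, y, hy, hxU⟩ := exists_chart' B x
  obtain ⟨c, hc⟩ := hf U y hy
  have hxU' : x.left (IsLocalRing.closedPoint k) ∈ U := hxU.ge (x := IsLocalRing.closedPoint k) trivial
  have hpU : p ∈ B.π.left ⁻¹ᵁ U := by
    show B.π.left p ∈ U
    exact hpx.symm ▸ hxU'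
  have hpc : p ∈ B.π.left ⁻¹ᵁ X.left.basicOpen c := by
    have h1 : p ∈ B.V.left.basicOpen (GLinSh.resTop B.π U f) := by
      rw [GLinSh.resTop, Scheme.basicOpen_res]
      exact ⟨hpU, hp⟩
    rw [hc, Scheme.basicOpen_mul] at h1
    rw [Scheme.preimage_basicOpen]
    exact h1.1
  have hxc : x.left (IsLocalRing.closedPoint k) ∈ X.left.basicOpen c := hpx ▸ hpc
  obtain ⟨v, hv, hv1⟩ := exists_normalized B hy x hxU.ge
  refine ⟨v, hv, fun h0 => ?_⟩
  have hvU : ⊤ ≤ (v ≫ B.π).left ⁻¹ᵁ U := by rw [hv, hxU]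
  have h1 : val v f = pval x hxU.ge c * cval B y v hvU ^ n := by
    rw [← pval_resTop v (W := B.π.left ⁻¹ᵁ U) hvU f]
    refine (congrArg (pval v (W := B.π.left ⁻¹ᵁ U) hvU) hc).trans ?_
    rw [map_mul, map_pow, pval_app v B.π hvU hvU, pval_congr hv]
    rfl
  rw [h0, hv1, one_pow, _root_.mul_one] at h1
  have h2 : x.left.appLE U ⊤ hxU.ge c = 0 := by
    rw [← struct_gamma (x.left.appLE U ⊤ hxU.ge c),
      show gamma k (x.left.appLE U ⊤ hxU.ge c) = 0 from h1.symm]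
    exact map_zero (struct (T0 k))
  have h3 : IsLocalRing.closedPoint k ∈ (T0 k).left.basicOpen (x.left.appLE U ⊤ hxU.ge c) := by
    exact (SetLike.ext_iff.mp (Scheme.basicOpen_appLE x.left _ _ hxU.ge c) _).mpr ⟨trivial, hxc⟩
  rw [h2, Scheme.basicOpen_zero] at h3
  exact h3

section Decomp

variable [IsAlgClosed k] {T : Over (Sk k)} [GrpObj T] (i : T ⟶ G) [IsMonHom i]

theorem compactSpace_total [CompactSpace X.left] : CompactSpace B.V.left := by
  haveI := B.atlas.affine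
  exact ⟨by simpa using QuasiCompact.isCompact_preimage (f := B.π.left) Set.univ isOpen_univ isCompact_univ⟩

theorem quasiSeparatedSpace_total [IsSeparated X.hom] : QuasiSeparatedSpace B.V.left := by
  haveI := B.atlas.affine
  haveI : QuasiSeparated (B.π.left ≫ X.hom) := inferInstance
  haveI : QuasiSeparated B.V.hom := Over.w B.π ▸ this
  exact quasiSeparatedSpace_of_quasiSeparated B.V.hom

/-- **Weight decomposition** of a function of weight `n` under a torus. -/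
theorem exists_eigen [CompactSpace X.left] [IsSeparated X.hom] (hT : Red.IsTorus T) {n : ℕ} {f : Fn B.V}
    (hf : GLinSh.HasWeight B.atlas.chart n f) :
    ∃ (m : ℕ) (g : Fin m → Fn T) (F : Fin m → Fn B.V), (∀ j, IsCharFn (g j)) ∧
      (∀ j (t : 𝟙_ (Over (Sk k)) ⟶ T) (v : 𝟙_ (Over (Sk k)) ⟶ B.V),
        val (lift (t ≫ i) v ≫ B.lift.act) (F j) = val t (g j) * val v (F j)) ∧
      (∀ j, Homog B n (F j)) ∧
      ∀ v : 𝟙_ (Over (Sk k)) ⟶ B.V, val v f = ∑ j, val v (F j) := by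
  obtain ⟨hTa, hspan⟩ := exists_span_char T hT
  haveI := hTa
  haveI := compactSpace_total B
  haveI := quasiSeparatedSpace_total B
  obtain ⟨N, p, b, hdec⟩ := exists_decomp_qcqs (Fn.pull ((i ▷ B.V) ≫ B.lift.act) f)
  choose M d g₀ hg₀ hp using fun j => hspan (p j)
  let Ix := Σ j : Fin N, Fin (M j)
  let ch : Ix → ((𝟙_ (Over (Sk k)) ⟶ T) →* k) := fun s => charHom (g₀ s.1 s.2) (hg₀ s.1 s.2)
  classical
  let S : Finset ((𝟙_ (Over (Sk k)) ⟶ T) →* k) := Finset.univ.image ch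
  let F : ((𝟙_ (Over (Sk k)) ⟶ T) →* k) → Fn B.V := fun χ =>
    ∑ s ∈ (Finset.univ : Finset Ix).filter (ch · = χ), d s.1 s.2 • b s.1
  have hval : ∀ t v, val (lift (t ≫ i) v ≫ B.lift.act) f = ∑ χ ∈ S, χ t * val v (F χ) := fun t v => by
    have h1 : val (lift (t ≫ i) v ≫ B.lift.act) f = ∑ s : Ix, ch s t * (d s.1 s.2 * val v (b s.1)) := by
      rw [← lift_whiskerRight_assoc, ← val_pull, hdec, map_sum, Fintype.sum_sigma]
      refine Finset.sum_congr rfl fun j _ => ?_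
      rw [map_mul, val_pull, val_pull, lift_fst, lift_snd, hp, map_sum, Finset.sum_mul]
      refine Finset.sum_congr rfl fun q _ => ?_
      rw [map_smul, smul_eq_mul]
      show _ = val t (g₀ j q) * _
      ring
    rw [h1, ← Finset.sum_fiberwise_of_maps_to (t := S) (g := ch) fun s _ => Finset.mem_image_of_mem _ (Finset.mem_univ s)]
    refine Finset.sum_congr rfl fun χ _ => ?_
    simp only [F, map_sum, map_smul, smul_eq_mul, Finset.mul_sum]
    exact Finset.sum_congr rfl fun s hs => by rw [(Finset.mem_filter.mp hs).2]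
  have indep : ∀ c : ((𝟙_ (Over (Sk k)) ⟶ T) →* k) → k, (∀ t, ∑ χ ∈ S, c χ * χ t = 0) → ∀ χ ∈ S, c χ = 0 :=
    fun c h => linearIndependent_iff'.mp (linearIndependent_monoidHom (𝟙_ (Over (Sk k)) ⟶ T) k) S c
      (funext fun t => by simpa [Finset.sum_apply] using h t)
  have hF : ∀ χ ∈ S, ∀ t v, val (lift (t ≫ i) v ≫ B.lift.act) (F χ) = χ t * val v (F χ) := by
    intro χ hχ t v
    refine sub_eq_zero.mp (indep (fun χ => val (lift (t ≫ i) v ≫ B.lift.act) (F χ) - χ t * val v (F χ)) (fun s => ?_) χ hχ)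
    have h1 := hval s (lift (t ≫ i) v ≫ B.lift.act)
    rw [← mul_act', ← MonObj.mul_comp, hval] at h1
    simp only [sub_mul, Finset.sum_sub_distrib]
    rw [sub_eq_zero]
    refine Eq.trans ?_ (h1.symm.trans ?_)
    · exact Finset.sum_congr rfl fun _ _ => mul_comm _ _
    · exact Finset.sum_congr rfl fun χ _ => by rw [map_mul]; ring
  have hHom : ∀ χ ∈ S, Homog B n (F χ) := by
    intro χ hχ U y hy v v₁ h h₁ hv hc
    refine sub_eq_zero.mp (indep (fun χ => val v (F χ) - cval B y v h ^ n * val v₁ (F χ)) (fun t => ?_) χ hχ)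
    obtain ⟨U₁, y₁, hy₁, hxU⟩ := exists_chart' B (lift (t ≫ i) (v ≫ B.π) ≫ a.act)
    obtain ⟨c, hc'⟩ := exists_cval_scalar B hy hy₁ (t ≫ i) (v ≫ B.π) h hxU.ge
    obtain ⟨v', hv', hv'1⟩ := exists_normalized B hy₁ _ hxU.ge
    have hv₁' : (lift (t ≫ i) v₁ ≫ B.lift.act) ≫ B.π = lift (t ≫ i) (v ≫ B.π) ≫ a.act := by rw [act_π, hv]
    have e0 := act_π B (t ≫ i) v
    have hf' := homog_of_hasWeight B hf U₁ y₁ hy₁
    have e1 := hf' (lift (t ≫ i) v ≫ B.lift.act) v' (by rw [e0]; exact hxU.ge) (by rw [hv']; exact hxU.ge)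
      (hv'.trans e0.symm) hv'1
    have e2 := hf' (lift (t ≫ i) v₁ ≫ B.lift.act) v' (by rw [hv₁']; exact hxU.ge) (by rw [hv']; exact hxU.ge)
      (hv'.trans hv₁'.symm) hv'1
    rw [hc' v rfl (by rw [e0]; exact hxU.ge), hval] at e1
    rw [hc' v₁ hv (by rw [hv₁']; exact hxU.ge), hc, _root_.mul_one, hval] at e2
    simp only [sub_mul, Finset.sum_sub_distrib]
    rw [sub_eq_zero]
    calc ∑ χ ∈ S, val v (F χ) * χ t = (c * cval B y v h) ^ n * val v' f := by
          rw [← e1]; exact Finset.sum_congr rfl fun _ _ => mul_comm _ _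
      _ = cval B y v h ^ n * (c ^ n * val v' f) := by ring
      _ = _ := by
          rw [← e2, Finset.mul_sum]
          exact Finset.sum_congr rfl fun _ _ => by ring
  have hrep : ∀ χ : S, ∃ g : Fn T, IsCharFn g ∧ ∀ t, val t g = χ.1 t := fun χ => by
    obtain ⟨s, -, hs⟩ := Finset.mem_image.mp χ.2
    exact ⟨g₀ s.1 s.2, hg₀ s.1 s.2, fun t => DFunLike.congr_fun hs t⟩
  choose g hg hgval using hrep
  let e := S.equivFin.symm
  refine ⟨_, fun j => g (e j), fun j => F (e j).1, fun j => hg _, fun j t v => ?_, fun j => hHom _ (e j).2,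
    fun v => ?_⟩
  · rw [hgval]
    exact hF _ (e j).2 t v
  · have h1 := hval 1 v
    rw [MonObj.one_comp, one_act'] at h1
    rw [h1, Equiv.sum_comp e (fun χ : S => val v (F χ.1)), Finset.sum_coe_sort S fun χ => val v (F χ)]
    exact Finset.sum_congr rfl fun χ _ => by rw [map_one, _root_.one_mul]

/-- **A finite separating family of torus eigenfunctions.** -/
theorem exists_family [IsSeparated X.hom] (hT : Red.IsTorus T) (hB : HMNum.AmpleCover B) :
    ∃ (r : ℕ) (deg : Fin r → ℕ) (g : Fin r → Fn T) (F : Fin r → Fn B.V),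
      (∀ j, 1 ≤ deg j) ∧ (∀ j, IsCharFn (g j)) ∧
      (∀ j (t : 𝟙_ (Over (Sk k)) ⟶ T) (v : 𝟙_ (Over (Sk k)) ⟶ B.V),
        val (lift (t ≫ i) v ≫ B.lift.act) (F j) = val t (g j) * val v (F j)) ∧
      (∀ j, Homog B (deg j) (F j)) ∧
      ∀ x : 𝟙_ (Over (Sk k)) ⟶ X, ∃ j, ∃ v : 𝟙_ (Over (Sk k)) ⟶ B.V, v ≫ B.π = x ∧ val v (F j) ≠ 0 := by
  obtain ⟨hcpt, hcov⟩ := hB
  choose n f hn hf hxf U hU _ using hcov
  have hxU : ∀ x, x ∈ U x := fun x => by
    show x ∈ (U x : Set X.left)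
    rw [hU]; exact hxf x
  obtain ⟨s, hs⟩ := isCompact_univ.elim_finite_subcover (fun x => (U x : Set X.left)) (fun x => (U x).2)
    fun x _ => Set.mem_iUnion.mpr ⟨x, hxU x⟩
  choose m g F hg hF hhom hsum using fun x : s => exists_eigen B i hT (hf x.1)
  let e := (Fintype.equivFin (Σ x : s, Fin (m x))).symm
  refine ⟨_, fun j => n (e j).1, fun j => g _ (e j).2, fun j => F _ (e j).2, fun j => hn _, fun j => hg _ _,
    fun j => hF _ _, fun j => hhom _ _, fun x => ?_⟩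
  obtain ⟨z, hz, hxz⟩ := Set.mem_iUnion₂.mp (hs (Set.mem_univ (x.left (IsLocalRing.closedPoint k))))
  rw [hU] at hxz
  obtain ⟨v, hv, hne⟩ := exists_val_ne_zero B (hf z) x hxz
  rw [hsum ⟨z, hz⟩] at hne
  obtain ⟨j, -, hj⟩ := Finset.exists_ne_zero_of_sum_ne_zero hne
  refine ⟨e.symm ⟨⟨z, hz⟩, j⟩, v, hv, ?_⟩
  beta_reduce
  rwa [Equiv.apply_symm_apply]

end Decomp

end H20Mu
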